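import Cfsg.Agent.Lib.NilCover.Basic
import Cfsg.Prelude.Def_Transfer

/-!
# Nilpotent minimal covers: abelian Sylow subgroups

If the Sylow `p`-subgroups are abelian then a member of the cover centralizes all its `p`-elements,
so two different members share no nontrivial `p`-element; a non-elementary abelian Sylow subgroup,
or one of order `p`, thus lies in a unique member.
-/

set_option autoImplicit false
set_option linter.style.haveILetI false
set_option linter.unusedSectionVars false

namespace Cfsg.Agent.Lib.NilCover.Abelian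

open Subgroup Cfsg.Agent.Lib.OddLocal.CN Cfsg.Agent.Lib.NilCover.Basic
open Cfsg.Agent.Lib.Coprime.Action
open scoped Pointwise

variable {G : Type*} [Group G] [Finite G] {p : ℕ} [hp : Fact p.Prime]

/-- Two members of a minimal cover do not lie in a common proper subgroup. -/
theorem eq_of_le_proper {𝓐 : Finset (Subgroup G)} (h : IsNilMinCover 𝓐) {A B M : Subgroup G}
    (hA : A ∈ 𝓐) (hB : B ∈ 𝓐) (hM : M ≠ ⊤) (hAM : A ≤ M) (hBM : B ≤ M) : A = B := by
  classical
  by_contra hne
  have := h.card_le (𝓡 := {A, B}) (𝓒 := {M})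
    (by
      intro C hC
      rcases Finset.mem_insert.mp hC with rfl | hC
      · exact hA
      · rw [Finset.mem_singleton.mp hC]; exact hB)
    (by
      intro C hC
      rw [Finset.mem_singleton.mp hC]; exact hM)
    (by
      intro C hC x hx
      refine ⟨M, Finset.mem_singleton_self M, ?_⟩
      rcases Finset.mem_insert.mp hC with rfl | hC
      · exact hAM hx
      · rw [Finset.mem_singleton.mp hC] at hx; exact hBM hx)
  rw [Finset.card_pair hne, Finset.card_singleton] at this
  omega

/-- A `p`-element of a nilpotent subgroup is central in it, when the Sylow `p`-subgroups are abelian. -/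
theorem le_centralizer_of_pelt (hab : ∀ Q : Sylow p G, IsMulCommutative (Q : Subgroup G))
    {A : Subgroup G} (hA : Group.IsNilpotent A) {z : G} (hz : z ∈ A) {k : ℕ} (hzk : z ^ p ^ k = 1) :
    A ≤ centralizer ({z} : Set G) := by
  intro x hx
  obtain ⟨u, v, hu, hv, rfl, ⟨j, hj⟩, hvc⟩ := exists_split p x
  have huA : u ∈ A := (zpowers_le.mpr hx) hu
  have hvA : v ∈ A := (zpowers_le.mpr hx) hv
  rw [mem_centralizer_iff]
  intro y hy
  rw [Set.mem_singleton_iff] at hy
  subst hy
  have h2 : Commute y v := by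
    refine commute_of_coprime' hA hz hvA ?_
    have hd : orderOf y ∣ p ^ k := orderOf_dvd_of_pow_eq_one hzk
    exact Nat.Coprime.coprime_dvd_left hd (Nat.Coprime.pow_left k hvc.symm)
  have h1 : y * u = u * y := by
    obtain ⟨S, hS⟩ := exists_isSylowIn p A
    have hyS := mem_isSylowIn hA hS hz hzk
    have huS := mem_isSylowIn hA hS huA hj
    obtain ⟨Q, hQ⟩ := hS.2.1.exists_le_sylow
    have := (hab Q).is_comm.comm (⟨y, hQ hyS⟩ : (Q : Subgroup G)) ⟨u, hQ huS⟩
    exact congrArg Subtype.val this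
  calc y * (u * v) = (y * u) * v := by group
    _ = (u * y) * v := by rw [h1]
    _ = u * (y * v) := by group
    _ = u * (v * y) := by rw [h2.eq]
    _ = (u * v) * y := by group

variable {𝓐 : Finset (Subgroup G)}

/-- Distinct members share no nontrivial `p`-element. -/
theorem eq_of_common_pelt (h : IsNilMinCover 𝓐) (hZ : center G = ⊥)
    (hab : ∀ Q : Sylow p G, IsMulCommutative (Q : Subgroup G))
    {A B : Subgroup G} (hA : A ∈ 𝓐) (hB : B ∈ 𝓐) {z : G} (hzA : z ∈ A) (hzB : z ∈ B) (hz1 : z ≠ 1)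
    {k : ℕ} (hzk : z ^ p ^ k = 1) : A = B := by
  refine eq_of_le_proper h hA hB (M := centralizer ({z} : Set G)) ?_
    (le_centralizer_of_pelt hab (h.nil A hA) hzA hzk)
    (le_centralizer_of_pelt hab (h.nil B hB) hzB hzk)
  intro htop
  apply hz1
  have : z ∈ center G := by
    rw [mem_center_iff]
    intro g
    have hg : g ∈ centralizer ({z} : Set G) := by rw [htop]; trivial
    exact (mem_centralizer_iff.mp hg) z (Set.mem_singleton z) |>.symm
  rw [hZ] at this
  simpa using this

/-- The non-elementary or order `p` case: some member contains the Sylow subgroup. -/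
theorem exists_le_member (h : IsNilMinCover 𝓐) (hZ : center G = ⊥)
    (hab : ∀ Q : Sylow p G, IsMulCommutative (Q : Subgroup G)) (Q : Sylow p G)
    (hne : ¬ (Cfsg.IsElementaryAbelian p (Q : Subgroup G) ∧ p < Nat.card (Q : Subgroup G))) :
    ∃ A ∈ 𝓐, (Q : Subgroup G) ≤ A := by
  classical
  have hpow : ∀ x ∈ (Q : Subgroup G), ∃ k : ℕ, x ^ p ^ k = 1 := by
    intro x hx
    obtain ⟨k, hk⟩ := Q.isPGroup' ⟨x, hx⟩
    exact ⟨k, congrArg Subtype.val hk⟩
  have hcomm : ∀ x ∈ (Q : Subgroup G), ∀ y ∈ (Q : Subgroup G), x * y = y * x := by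
    intro x hx y hy
    have := (hab Q).is_comm.comm (⟨x, hx⟩ : (Q : Subgroup G)) ⟨y, hy⟩
    exact congrArg Subtype.val this
  by_cases hel : ∀ x ∈ (Q : Subgroup G), x ^ p = 1
  · -- order at most `p`
    have hcard : ¬ p < Nat.card (Q : Subgroup G) := fun hlt => hne ⟨⟨hab Q, hel⟩, hlt⟩
    by_cases hall : ∀ x ∈ (Q : Subgroup G), x = 1
    · obtain ⟨A, hA, -⟩ := h.covers 1
      refine ⟨A, hA, fun x hx => ?_⟩
      rw [hall x hx]; exact one_mem A
    · push Not at hall
      obtain ⟨y, hy, hy1⟩ := hall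
      obtain ⟨A, hA, hyA⟩ := h.covers y
      refine ⟨A, hA, ?_⟩
      have hzp : zpowers y ≤ (Q : Subgroup G) := zpowers_le.mpr hy
      have hcz : Nat.card (zpowers y) = p := by
        rw [Nat.card_zpowers]
        exact orderOf_eq_prime (hel y hy) hy1
      have heq : zpowers y = (Q : Subgroup G) := by
        refine Subgroup.eq_of_le_of_card_ge hzp ?_
        rw [hcz]; omega
      rw [← heq, zpowers_le]
      exact hyA
  · push Not at hel
    obtain ⟨y, hy, hyp⟩ := hel
    obtain ⟨A, hA, hyA⟩ := h.covers y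
    refine ⟨A, hA, ?_⟩
    -- all elements of order `p` of `Q` lie in `A`
    have hord : ∀ u ∈ (Q : Subgroup G), u ^ p = 1 → u ∈ A := by
      intro u hu hup
      obtain ⟨B, hB, huyB⟩ := h.covers (u * y)
      have hq : (u * y) ^ p = y ^ p := by
        have hc : Commute u y := hcomm u hu y hy
        rw [hc.mul_pow, hup, one_mul]
      have hy1 : y ^ p ∈ B := by
        rw [← hq]; exact pow_mem huyB p
      have hyA' : y ^ p ∈ A := pow_mem hyA p
      obtain ⟨k, hk⟩ := hpow _ (pow_mem hy p)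
      have : A = B := eq_of_common_pelt h hZ hab hA hB hyA' hy1 hyp hk
      subst this
      have := mul_mem huyB (inv_mem hyA)
      simpa using this
    intro u hu
    by_contra huA
    obtain ⟨B, hB, huB⟩ := h.covers u
    obtain ⟨k, hk⟩ := hpow u hu
    have hu1 : u ≠ 1 := by
      rintro rfl
      exact huA (one_mem A)
    -- a power of `u` of order `p`
    obtain ⟨m, hm⟩ : ∃ m : ℕ, orderOf u = p ^ (m + 1) := by
      obtain ⟨j, -, hj⟩ := (Nat.dvd_prime_pow hp.out).mp (orderOf_dvd_of_pow_eq_one hk)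
      rcases j with _ | j
      · exfalso
        apply hu1
        simpa using (orderOf_eq_one_iff.mp (by simpa using hj))
      · exact ⟨j, hj⟩
    set w := u ^ p ^ m with hw
    have hw1 : w ≠ 1 := by
      rw [hw]
      intro h0
      have := orderOf_dvd_of_pow_eq_one h0
      rw [hm] at this
      have h3 := Nat.le_of_dvd (pow_pos hp.out.pos _) this
      have h4 : p ^ m < p ^ (m + 1) := Nat.pow_lt_pow_right hp.out.one_lt (Nat.lt_succ_self m)
      omega
    have hwp : w ^ p = 1 := by
      rw [hw, ← pow_mul, ← pow_succ, ← hm, pow_orderOf_eq_one]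
    have hwQ : w ∈ (Q : Subgroup G) := pow_mem hu _
    have hwA := hord w hwQ hwp
    have hwB : w ∈ B := pow_mem huB _
    have : A = B := by
      refine eq_of_common_pelt h hZ hab hA hB hwA hwB hw1 (k := 1) ?_
      simpa using hwp
    exact huA (this ▸ huB)

section main

variable (h : IsNilMinCover 𝓐) (hZ : center G = ⊥)
  (hab : ∀ Q : Sylow p G, IsMulCommutative (Q : Subgroup G))
  (hex : ∀ Q : Sylow p G, ∃ A ∈ 𝓐, (Q : Subgroup G) ≤ A)

include h hZ hab hex

/-- Trivial intersection. -/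
theorem inter_trivial (Q R : Sylow p G) (hQR : Q ≠ R) {u : G} (huQ : u ∈ (Q : Subgroup G))
    (huR : u ∈ (R : Subgroup G)) : u = 1 := by
  by_contra hu1
  obtain ⟨A, hA, hQA⟩ := hex Q
  obtain ⟨B, hB, hRB⟩ := hex R
  obtain ⟨k, hk⟩ := Q.isPGroup' ⟨u, huQ⟩
  have : A = B := eq_of_common_pelt h hZ hab hA hB (hQA huQ) (hRB huR) hu1 (k := k)
    (congrArg Subtype.val hk)
  subst this
  exact hQR (sylow_eq_of_le (h.nil A hA) Q R hQA hRB)

/-- The member containing `Q` is its centralizer. -/
theorem centralizer_eq (Q : Sylow p G) (hQ1 : (Q : Subgroup G) ≠ ⊥) {A : Subgroup G} (hA : A ∈ 𝓐)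
    (hQA : (Q : Subgroup G) ≤ A) : centralizer ((Q : Subgroup G) : Set G) = A := by
  refine le_antisymm ?_ (le_centralizer_of_le (h.nil A hA) Q hQA (hab Q))
  intro y hy
  obtain ⟨u, v, hu, hv, rfl, ⟨k, huk⟩, hvc⟩ := exists_split p y
  have huC : u ∈ centralizer ((Q : Subgroup G) : Set G) := (zpowers_le.mpr hy) hu
  have hvC : v ∈ centralizer ((Q : Subgroup G) : Set G) := (zpowers_le.mpr hy) hv
  have huQ : u ∈ (Q : Subgroup G) := by
    obtain ⟨j, -, hj⟩ := (Nat.dvd_prime_pow hp.out).mp (orderOf_dvd_of_pow_eq_one huk)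
    exact Cfsg.Agent.Lib.CentMax.Abelian.mem_sylow_of_mem_normalizer Q hj
      ((centralizer_le_normalizer _) huC)
  obtain ⟨t, ht, ht1⟩ := (Subgroup.bot_or_exists_ne_one (Q : Subgroup G)).resolve_left hQ1
  have htv : Commute t v := (mem_centralizer_iff.mp hvC) t ht
  obtain ⟨j, hj⟩ := Q.isPGroup' ⟨t, ht⟩
  have hco : (orderOf t).Coprime (orderOf v) := by
    have hd : orderOf t ∣ p ^ j := orderOf_dvd_of_pow_eq_one (congrArg Subtype.val hj)
    exact Nat.Coprime.coprime_dvd_left hd (Nat.Coprime.pow_left j hvc.symm)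
  obtain ⟨B, hB, hx⟩ := h.covers (t * v)
  have ht1B : t ∈ B := (zpowers_le.mpr hx)
    (Cfsg.Agent.Lib.CentMax.Basic.mem_zpowers_mul_of_coprime htv hco)
  have hv1B : v ∈ B := by
    have := Cfsg.Agent.Lib.CentMax.Basic.mem_zpowers_mul_of_coprime htv.symm hco.symm
    rw [htv.symm.eq] at this
    exact (zpowers_le.mpr hx) this
  have : A = B := eq_of_common_pelt h hZ hab hA hB (hQA ht) ht1B ht1 (k := j)
    (congrArg Subtype.val hj)
  subst this
  exact mul_mem (hQA huQ) hv1B

/-- The normalizer is a maximal subgroup, the only one containing the centralizer. -/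
theorem eq_normalizer_of_coatom (Q : Sylow p G) (hQ1 : (Q : Subgroup G) ≠ ⊥)
    (hnn : ¬ (Q : Subgroup G).Normal) {M : Subgroup G} (hM : IsCoatom M)
    (hCM : centralizer ((Q : Subgroup G) : Set G) ≤ M) :
    M = normalizer ((Q : Subgroup G) : Set G) := by
  have hle : M ≤ normalizer ((Q : Subgroup G) : Set G) := by
    intro g hg
    have hkey : g ∈ normalizer ((Q : Subgroup G) : Set G) ↔ g • Q = Q :=
      Sylow.smul_eq_iff_mem_normalizer.symm
    rw [hkey]
    by_contra hne
    obtain ⟨A, hA, hQA⟩ := hex Q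
    obtain ⟨B, hB, hRB⟩ := hex (g • Q)
    have hAC := centralizer_eq h hZ hab hex Q hQ1 hA hQA
    have hR1 : ((g • Q : Sylow p G) : Subgroup G) ≠ ⊥ := by
      intro h0
      apply hQ1
      rw [Sylow.coe_subgroup_smul] at h0
      rw [eq_bot_iff]
      intro x hx
      have h1 : MulAut.conj g • x ∈ MulAut.conj g • (Q : Subgroup G) :=
        Subgroup.smul_mem_pointwise_smul _ _ _ hx
      rw [h0, mem_bot, MulAut.smul_def, MulAut.conj_apply] at h1
      rw [mem_bot]
      have h2 : x = g⁻¹ * (g * x * g⁻¹) * g := by group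
      rw [h2, h1]
      group
    have hBC := centralizer_eq h hZ hab hex (g • Q) hR1 hB hRB
    have hAM : A ≤ M := hAC ▸ hCM
    have hBM : B ≤ M := by
      rw [← hBC]
      intro y hy
      have := centralizer_smul_le Q g hCM hy
      rw [Subgroup.mem_pointwise_smul_iff_inv_smul_mem] at this
      have h2 : g * ((MulAut.conj g)⁻¹ • y) * g⁻¹ ∈ M :=
        mul_mem (mul_mem hg this) (inv_mem hg)
      have h3 : g * ((MulAut.conj g)⁻¹ • y) * g⁻¹ = y := by
        simp [MulAut.smul_def, mul_assoc]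
      rwa [h3] at h2
    have hAB : A = B := eq_of_le_proper h hA hB hM.1 hAM hBM
    subst hAB
    exact hne (sylow_eq_of_le (h.nil A hA) (g • Q) Q hRB hQA)
  have hnt : normalizer ((Q : Subgroup G) : Set G) ≠ ⊤ := by
    intro htop
    exact hnn (Subgroup.normalizer_eq_top_iff.mp htop)
  by_contra hne
  exact hnt (hM.2 _ (lt_of_le_of_ne hle hne))

theorem normalizer_isCoatom (Q : Sylow p G) (hQ1 : (Q : Subgroup G) ≠ ⊥)
    (hnn : ¬ (Q : Subgroup G).Normal) : IsCoatom (normalizer ((Q : Subgroup G) : Set G)) := by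
  have hnt : normalizer ((Q : Subgroup G) : Set G) ≠ ⊤ := by
    intro htop
    exact hnn (Subgroup.normalizer_eq_top_iff.mp htop)
  haveI : Finite (Subgroup G) := inferInstance
  obtain ⟨M, hM, hle⟩ := (eq_top_or_exists_le_coatom (normalizer ((Q : Subgroup G) : Set G))).resolve_left hnt
  have := eq_normalizer_of_coatom h hZ hab hex Q hQ1 hnn hM
    ((centralizer_le_normalizer _).trans hle)
  rwa [this] at hM

end main

/-- Abelianness passes to all Sylow subgroups. -/
theorem abelian_all (P : Sylow p G) (hab : IsMulCommutative (P : Subgroup G)) (Q : Sylow p G) :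
    IsMulCommutative (Q : Subgroup G) := by
  obtain ⟨g, rfl⟩ := MulAction.exists_smul_eq G P Q
  refine ⟨⟨fun a b => ?_⟩⟩
  have e := P.equivSMul g
  apply e.symm.injective
  rw [map_mul, map_mul]
  exact hab.is_comm.comm _ _

/-- The property of being elementary abelian of order larger than `p` is conjugation invariant. -/
theorem not_elem_all (P : Sylow p G)
    (hne : ¬ (Cfsg.IsElementaryAbelian p (P : Subgroup G) ∧ p < Nat.card (P : Subgroup G)))
    (Q : Sylow p G) :
    ¬ (Cfsg.IsElementaryAbelian p (Q : Subgroup G) ∧ p < Nat.card (Q : Subgroup G)) := by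
  obtain ⟨g, rfl⟩ := MulAction.exists_smul_eq G P Q
  rintro ⟨⟨hc, hel⟩, hlt⟩
  apply hne
  have e := P.equivSMul g
  refine ⟨⟨?_, ?_⟩, ?_⟩
  · refine ⟨⟨fun a b => ?_⟩⟩
    apply e.injective
    rw [map_mul, map_mul]
    exact hc.is_comm.comm _ _
  · intro a ha
    have h1 := hel (e ⟨a, ha⟩ : ((g • P : Sylow p G) : Subgroup G)) (e ⟨a, ha⟩).2
    have h2 : (e ⟨a, ha⟩) ^ p = 1 := Subtype.ext h1
    rw [← map_pow] at h2
    have h3 : (⟨a, ha⟩ : (P : Subgroup G)) ^ p = 1 := e.injective (h2.trans (map_one e).symm)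
    exact congrArg Subtype.val h3
  · rwa [Nat.card_congr e.toEquiv]

/-- Packaged conclusion for a nonnormal abelian Sylow subgroup that is not elementary abelian of
order larger than `p`. -/
theorem main (h : IsNilMinCover 𝓐) (hZ : center G = ⊥) (P : Sylow p G)
    (hab : IsMulCommutative (P : Subgroup G))
    (hne : ¬ (Cfsg.IsElementaryAbelian p (P : Subgroup G) ∧ p < Nat.card (P : Subgroup G)))
    (hnn : ¬ (P : Subgroup G).Normal) :
    ∃ A ∈ 𝓐, (P : Subgroup G) ≤ A ∧ centralizer ((P : Subgroup G) : Set G) = A ∧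
      IsCoatom (normalizer ((P : Subgroup G) : Set G)) ∧
      (∀ M : Subgroup G, IsCoatom M → centralizer ((P : Subgroup G) : Set G) ≤ M →
        M = normalizer ((P : Subgroup G) : Set G)) ∧
      (∀ Q : Sylow p G, Q ≠ P → ∀ u ∈ (P : Subgroup G), u ∈ (Q : Subgroup G) → u = 1) := by
  have hab' := abelian_all P hab
  have hex : ∀ Q : Sylow p G, ∃ A ∈ 𝓐, (Q : Subgroup G) ≤ A := fun Q =>
    exists_le_member h hZ hab' Q (not_elem_all P hne Q)
  have hP1 : (P : Subgroup G) ≠ ⊥ := by
    intro h0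
    apply hnn
    rw [h0]
    infer_instance
  obtain ⟨A, hA, hPA⟩ := hex P
  refine ⟨A, hA, hPA, centralizer_eq h hZ hab' hex P hP1 hA hPA,
    normalizer_isCoatom h hZ hab' hex P hP1 hnn,
    fun M hM hCM => eq_normalizer_of_coatom h hZ hab' hex P hP1 hnn hM hCM, ?_⟩
  intro Q hQ u huP huQ
  exact inter_trivial h hZ hab' hex P Q hQ.symm huP huQ

end Cfsg.Agent.Lib.NilCover.Abelian
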