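import Mathlib
import Cfsg.Agent.Lib.OddLocal.CN
import Cfsg.Agent.Lib.CentMax.Abelian

/-!
# Nilpotent minimal covers: replacement and cyclic Sylow subgroups
-/

set_option autoImplicit false
set_option linter.style.haveILetI false
set_option linter.unusedSectionVars false

namespace Cfsg.Agent.Lib.NilCover.Basic

open Subgroup Cfsg.Agent.Lib.OddLocal.CN
open scoped Pointwise

variable {G : Type*} [Group G]

/-- A cover of minimal size by nilpotent proper subgroups. -/
structure IsNilMinCover (𝓐 : Finset (Subgroup G)) : Prop where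
  proper : ∀ A ∈ 𝓐, A ≠ ⊤
  covers : ∀ g : G, ∃ A ∈ 𝓐, g ∈ A
  minimal : ∀ 𝓑 : Finset (Subgroup G), (∀ A ∈ 𝓑, A ≠ ⊤) ∧ (∀ g : G, ∃ A ∈ 𝓑, g ∈ A) →
    𝓐.card ≤ 𝓑.card
  nil : ∀ A ∈ 𝓐, Group.IsNilpotent ↥A

theorem IsNilMinCover.of_hyp {𝓐 : Finset (Subgroup G)}
    (h : ((∀ A ∈ 𝓐, A ≠ ⊤) ∧ (∀ g : G, ∃ A ∈ 𝓐, g ∈ A)) ∧
      (∀ 𝓑 : Finset (Subgroup G), (∀ A ∈ 𝓑, A ≠ ⊤) ∧ (∀ g : G, ∃ A ∈ 𝓑, g ∈ A) →
        𝓐.card ≤ 𝓑.card) ∧ (∀ A ∈ 𝓐, Group.IsNilpotent ↥A)) : IsNilMinCover 𝓐 :=
  ⟨h.1.1, h.1.2, h.2.1, h.2.2⟩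

/-- Replacement: a subfamily of a minimal cover cannot be replaced by a smaller family. -/
theorem IsNilMinCover.card_le {𝓐 : Finset (Subgroup G)} (h : IsNilMinCover 𝓐)
    {𝓡 𝓒 : Finset (Subgroup G)} (hR : 𝓡 ⊆ 𝓐) (hS : ∀ C ∈ 𝓒, C ≠ ⊤)
    (hcov : ∀ A ∈ 𝓡, ∀ x ∈ A, ∃ C ∈ 𝓒, x ∈ C) : 𝓡.card ≤ 𝓒.card := by
  classical
  have hB := h.minimal ((𝓐 \ 𝓡) ∪ 𝓒) ⟨?_, ?_⟩
  · have h1 : ((𝓐 \ 𝓡) ∪ 𝓒).card ≤ (𝓐 \ 𝓡).card + 𝓒.card := Finset.card_union_le _ _
    have h2 : (𝓐 \ 𝓡).card = 𝓐.card - 𝓡.card := Finset.card_sdiff_of_subset hR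
    have h3 : 𝓡.card ≤ 𝓐.card := Finset.card_le_card hR
    omega
  · intro A hA
    rcases Finset.mem_union.mp hA with hA | hA
    · exact h.proper A (Finset.mem_sdiff.mp hA).1
    · exact hS A hA
  · intro g
    obtain ⟨A, hA, hg⟩ := h.covers g
    by_cases hAR : A ∈ 𝓡
    · obtain ⟨C, hC, hgC⟩ := hcov A hAR g hg
      exact ⟨C, Finset.mem_union_right _ hC, hgC⟩
    · exact ⟨A, Finset.mem_union_left _ (Finset.mem_sdiff.mpr ⟨hA, hAR⟩), hg⟩

/-- Injective-family form of replacement. -/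
theorem IsNilMinCover.card_le_of_injective {𝓐 : Finset (Subgroup G)} (h : IsNilMinCover 𝓐)
    {I : Type*} [Fintype I] (f : I → Subgroup G) (hf : ∀ i, f i ∈ 𝓐)
    (hinj : Function.Injective f) {𝓒 : Finset (Subgroup G)} (hS : ∀ C ∈ 𝓒, C ≠ ⊤)
    (hcov : ∀ i, ∀ x ∈ f i, ∃ C ∈ 𝓒, x ∈ C) : Fintype.card I ≤ 𝓒.card := by
  classical
  have := h.card_le (𝓡 := Finset.univ.image f) (𝓒 := 𝓒)
    (by
      intro A hA
      obtain ⟨i, -, rfl⟩ := Finset.mem_image.mp hA
      exact hf i) hS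
    (by
      intro A hA x hx
      obtain ⟨i, -, rfl⟩ := Finset.mem_image.mp hA
      exact hcov i x hx)
  rwa [Finset.card_image_of_injective _ hinj, Finset.card_univ] at this

/-- Transport along an isomorphism. -/
theorem IsNilMinCover.map {G' : Type*} [Group G'] (e : G ≃* G') {𝓐 : Finset (Subgroup G)}
    (h : IsNilMinCover 𝓐) :
    letI := Classical.decEq (Subgroup G')
    IsNilMinCover (𝓐.image (fun A => A.map e.toMonoidHom)) := by
  classical
  have hinj : Function.Injective (fun A : Subgroup G => A.map e.toMonoidHom) :=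
    Subgroup.map_injective e.injective
  refine ⟨?_, ?_, ?_, ?_⟩
  · intro A hA htop
    obtain ⟨B, hB, rfl⟩ := Finset.mem_image.mp hA
    refine h.proper B hB ?_
    rw [eq_top_iff]
    intro x _
    have : e x ∈ B.map e.toMonoidHom := by
      rw [htop]; trivial
    obtain ⟨y, hy, hyx⟩ := this
    have : y = x := e.injective hyx
    exact this ▸ hy
  · intro g
    obtain ⟨A, hA, hg⟩ := h.covers (e.symm g)
    refine ⟨A.map e.toMonoidHom, Finset.mem_image_of_mem _ hA, ⟨_, hg, by simp⟩⟩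
  · intro 𝓑 h𝓑
    have h1 := h.minimal (𝓑.image (fun B => B.map e.symm.toMonoidHom)) ⟨?_, ?_⟩
    · rw [Finset.card_image_of_injective _ hinj]
      exact h1.trans Finset.card_image_le
    · intro A hA htop
      obtain ⟨B, hB, rfl⟩ := Finset.mem_image.mp hA
      refine h𝓑.1 B hB ?_
      rw [eq_top_iff]
      intro x _
      have : e.symm x ∈ B.map e.symm.toMonoidHom := by
        rw [htop]; trivial
      obtain ⟨y, hy, hyx⟩ := this
      have : y = x := e.symm.injective hyx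
      exact this ▸ hy
    · intro g
      obtain ⟨A, hA, hg⟩ := h𝓑.2 (e g)
      refine ⟨A.map e.symm.toMonoidHom, Finset.mem_image_of_mem _ hA, ⟨_, hg, by simp⟩⟩
  · intro A hA
    obtain ⟨B, hB, rfl⟩ := Finset.mem_image.mp hA
    haveI := h.nil B hB
    have e' : B ≃* (B.map e.toMonoidHom : Subgroup G') := B.equivMapOfInjective _ e.injective
    exact (Group.isNilpotent_congr e').mp inferInstance

theorem isMulCommutative_of_cyc {H : Type*} [Group H] (hc : IsCyclic H) : IsMulCommutative H := by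
  letI := hc.commGroup
  exact ⟨⟨fun a b => mul_comm a b⟩⟩

section sylow

variable [Finite G] {p : ℕ} [hp : Fact p.Prime]

theorem isSylowIn_of_le (P : Sylow p G) {A : Subgroup G} (hP : (P : Subgroup G) ≤ A) :
    Cfsg.Agent.Lib.Coprime.Action.IsSylowIn p (P : Subgroup G) A :=
  ⟨hP, P.isPGroup', fun hd => P.not_dvd_index (hd.trans (Dvd.intro _ (relIndex_mul_index hP)))⟩

theorem mem_sylow_of_le {A : Subgroup G} (hA : Group.IsNilpotent A) (P : Sylow p G)
    (hP : (P : Subgroup G) ≤ A) {u : G} (hu : u ∈ A) {k : ℕ} (hk : u ^ p ^ k = 1) :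
    u ∈ (P : Subgroup G) :=
  mem_isSylowIn hA (isSylowIn_of_le P hP) hu hk

theorem sylow_eq_of_le {A : Subgroup G} (hA : Group.IsNilpotent A) (P Q : Sylow p G)
    (hP : (P : Subgroup G) ≤ A) (hQ : (Q : Subgroup G) ≤ A) : P = Q := by
  have key : ∀ (P Q : Sylow p G), (P : Subgroup G) ≤ A → (Q : Subgroup G) ≤ A →
      (P : Subgroup G) ≤ Q := by
    intro P Q hP hQ x hx
    obtain ⟨k, hk⟩ := P.isPGroup' ⟨x, hx⟩
    exact mem_sylow_of_le hA Q hQ (hP hx) (k := k) (congrArg Subtype.val hk)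
  exact Sylow.ext (le_antisymm (key P Q hP hQ) (key Q P hQ hP))

/-- An abelian Sylow subgroup inside a nilpotent subgroup is central in that subgroup. -/
theorem le_centralizer_of_le {A : Subgroup G} (hA : Group.IsNilpotent A) (P : Sylow p G)
    (hP : (P : Subgroup G) ≤ A) (hab : IsMulCommutative (P : Subgroup G)) :
    A ≤ centralizer ((P : Subgroup G) : Set G) := by
  intro x hx
  obtain ⟨u, v, hu, hv, rfl, ⟨k, hk⟩, hvc⟩ := exists_split p x
  have huA : u ∈ A := (zpowers_le.mpr hx) hu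
  have hvA : v ∈ A := (zpowers_le.mpr hx) hv
  have huP := mem_sylow_of_le hA P hP huA hk
  rw [mem_centralizer_iff]
  intro y hy
  have h1 : y * u = u * y := by
    have := hab.is_comm.comm (⟨y, hy⟩ : (P : Subgroup G)) ⟨u, huP⟩
    exact congrArg Subtype.val this
  have h2 : Commute y v := by
    refine commute_of_coprime' hA (hP hy) hvA ?_
    obtain ⟨j, hj⟩ := P.isPGroup' ⟨y, hy⟩
    have hd : orderOf y ∣ p ^ j := orderOf_dvd_of_pow_eq_one (congrArg Subtype.val hj)
    exact Nat.Coprime.coprime_dvd_left hd (Nat.Coprime.pow_left j hvc.symm)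
  calc y * (u * v) = (y * u) * v := by group
    _ = (u * y) * v := by rw [h1]
    _ = u * (y * v) := by group
    _ = u * (v * y) := by rw [h2.eq]
    _ = (u * v) * y := by group

/-- Members of the cover containing a cyclic Sylow subgroup cover its centralizer. -/
theorem exists_mem_of_mem_centralizer {𝓐 : Finset (Subgroup G)} (h : IsNilMinCover 𝓐)
    (Q : Sylow p G) (hc : IsCyclic (Q : Subgroup G)) {y : G}
    (hy : y ∈ centralizer ((Q : Subgroup G) : Set G)) :
    ∃ A ∈ 𝓐, (Q : Subgroup G) ≤ A ∧ y ∈ A := by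
  obtain ⟨⟨g, hgQ⟩, hg⟩ := hc.exists_generator
  have hQg : (Q : Subgroup G) = zpowers g := by
    apply le_antisymm
    · intro x hx
      obtain ⟨k, hk⟩ := mem_zpowers_iff.mp (hg ⟨x, hx⟩)
      exact mem_zpowers_iff.mpr ⟨k, congrArg Subtype.val hk⟩
    · rw [zpowers_le]; exact hgQ
  obtain ⟨u, v, hu, hv, rfl, ⟨k, hk⟩, hvc⟩ := exists_split p y
  have huC : u ∈ centralizer ((Q : Subgroup G) : Set G) := (zpowers_le.mpr hy) hu
  have hvC : v ∈ centralizer ((Q : Subgroup G) : Set G) := (zpowers_le.mpr hy) hv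
  have huQ : u ∈ (Q : Subgroup G) := by
    obtain ⟨j, -, hj⟩ := (Nat.dvd_prime_pow hp.out).mp (orderOf_dvd_of_pow_eq_one hk)
    refine Cfsg.Agent.Lib.CentMax.Abelian.mem_sylow_of_mem_normalizer Q hj ?_
    exact (centralizer_le_normalizer _) huC
  have hgv : Commute g v := ((mem_centralizer_iff.mp hvC) g hgQ)
  obtain ⟨j, hj⟩ := Q.isPGroup' ⟨g, hgQ⟩
  have hco : (orderOf g).Coprime (orderOf v) := by
    have hd : orderOf g ∣ p ^ j := orderOf_dvd_of_pow_eq_one (congrArg Subtype.val hj)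
    exact Nat.Coprime.coprime_dvd_left hd (Nat.Coprime.pow_left j hvc.symm)
  obtain ⟨A, hA, hx⟩ := h.covers (g * v)
  have hg1 : g ∈ A := (zpowers_le.mpr hx)
    (Cfsg.Agent.Lib.CentMax.Basic.mem_zpowers_mul_of_coprime hgv hco)
  have hv1 : v ∈ A := by
    have := Cfsg.Agent.Lib.CentMax.Basic.mem_zpowers_mul_of_coprime hgv.symm hco.symm
    rw [hgv.symm.eq] at this
    exact (zpowers_le.mpr hx) this
  have hQA : (Q : Subgroup G) ≤ A := by
    rw [hQg, zpowers_le]; exact hg1
  exact ⟨A, hA, hQA, mul_mem (hQA huQ) hv1⟩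

theorem isCyclic_smul (P : Sylow p G) (hc : IsCyclic (P : Subgroup G)) (x : G) :
    IsCyclic ((x • P : Sylow p G) : Subgroup G) :=
  isCyclic_of_surjective (P.equivSMul x).toMonoidHom (P.equivSMul x).surjective

theorem centralizer_smul_le (P : Sylow p G) (x : G) {M : Subgroup G}
    (hM : centralizer ((P : Subgroup G) : Set G) ≤ M) :
    centralizer (((x • P : Sylow p G) : Subgroup G) : Set G) ≤ MulAut.conj x • M := by
  intro y hy
  rw [Subgroup.mem_pointwise_smul_iff_inv_smul_mem]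
  apply hM
  rw [mem_centralizer_iff]
  intro z hz
  have hz' : x * z * x⁻¹ ∈ ((x • P : Sylow p G) : Subgroup G) := by
    rw [Sylow.coe_subgroup_smul]
    rw [Subgroup.mem_pointwise_smul_iff_inv_smul_mem]
    have e : (MulAut.conj x)⁻¹ • (x * z * x⁻¹) = z := by
      simp [MulAut.smul_def, MulAut.conj_inv_apply, mul_assoc]
    rw [e]
    exact hz
  have h1 := (mem_centralizer_iff.mp hy) _ hz'
  simp only [MulAut.smul_def, MulAut.conj_inv_apply]
  calc z * (x⁻¹ * y * x) = x⁻¹ * ((x * z * x⁻¹) * y) * x := by group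
    _ = x⁻¹ * (y * (x * z * x⁻¹)) * x := by rw [h1]
    _ = x⁻¹ * y * x * z := by group

theorem conj_smul_ne_top {M : Subgroup G} (hM : M ≠ ⊤) (x : G) : MulAut.conj x • M ≠ ⊤ := by
  intro h
  refine hM ?_
  rw [eq_top_iff]
  intro y _
  have : MulAut.conj x • y ∈ MulAut.conj x • M := by rw [h]; trivial
  exact (Subgroup.smul_mem_pointwise_smul_iff).mp this

/-- Main counting fact for a cyclic Sylow subgroup. -/
theorem cyclic_count {𝓐 : Finset (Subgroup G)} (h : IsNilMinCover 𝓐) (P : Sylow p G)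
    (hc : IsCyclic (P : Subgroup G)) {M : Subgroup G} (hM : M ≠ ⊤)
    (hCM : centralizer ((P : Subgroup G) : Set G) ≤ M) (s : Sylow p G → G)
    (hs : ∀ Q, s Q • P = Q) :
    (∀ A B, A ∈ 𝓐 → B ∈ 𝓐 → ∀ Q : Sylow p G, (Q : Subgroup G) ≤ A → (Q : Subgroup G) ≤ B → A = B) ∧
      Function.Injective (fun Q : Sylow p G => MulAut.conj (s Q) • M) := by
  classical
  haveI := Fintype.ofFinite (Sylow p G)
  have hcyc : ∀ Q : Sylow p G, IsCyclic (Q : Subgroup G) := by
    intro Q
    rw [← hs Q]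
    exact isCyclic_smul P hc _
  have hab : ∀ Q : Sylow p G, IsMulCommutative (Q : Subgroup G) := by
    intro Q
    exact isMulCommutative_of_cyc (hcyc Q)
  have hex : ∀ Q : Sylow p G, ∃ A ∈ 𝓐, (Q : Subgroup G) ≤ A := by
    intro Q
    obtain ⟨A, hA, hQA, -⟩ := exists_mem_of_mem_centralizer h Q (hcyc Q)
      (one_mem (centralizer ((Q : Subgroup G) : Set G)))
    exact ⟨A, hA, hQA⟩
  choose f hf hfQ using hex
  have hfinj : Function.Injective f := by
    intro Q R hQR
    refine sylow_eq_of_le (h.nil _ (hf Q)) Q R (hfQ Q) ?_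
    rw [hQR]; exact hfQ R
  set 𝓡 : Finset (Subgroup G) := 𝓐.filter (fun A => ∃ Q : Sylow p G, (Q : Subgroup G) ≤ A) with h𝓡
  set 𝓒 : Finset (Subgroup G) := Finset.univ.image (fun Q : Sylow p G => MulAut.conj (s Q) • M)
    with h𝓒
  have h1 : 𝓡.card ≤ 𝓒.card := by
    refine h.card_le (Finset.filter_subset _ _) ?_ ?_
    · intro C hC
      obtain ⟨Q, -, rfl⟩ := Finset.mem_image.mp hC
      exact conj_smul_ne_top hM _
    · intro A hA x hx
      obtain ⟨hA1, Q, hQ⟩ := Finset.mem_filter.mp hA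
      refine ⟨MulAut.conj (s Q) • M, Finset.mem_image_of_mem _ (Finset.mem_univ Q), ?_⟩
      apply centralizer_smul_le P (s Q) hCM
      rw [hs Q]
      exact le_centralizer_of_le (h.nil A hA1) Q hQ (hab Q) hx
  have h2 : 𝓒.card ≤ Fintype.card (Sylow p G) := by
    rw [← Finset.card_univ]; exact Finset.card_image_le
  have h3 : Finset.univ.image f ⊆ 𝓡 := by
    intro A hA
    obtain ⟨Q, -, rfl⟩ := Finset.mem_image.mp hA
    exact Finset.mem_filter.mpr ⟨hf Q, Q, hfQ Q⟩
  have h4 : Fintype.card (Sylow p G) ≤ 𝓡.card := by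
    have := Finset.card_le_card h3
    rwa [Finset.card_image_of_injective _ hfinj, Finset.card_univ] at this
  have h5 : Finset.univ.image f = 𝓡 :=
    Finset.eq_of_subset_of_card_le h3 (by
      rw [Finset.card_image_of_injective _ hfinj, Finset.card_univ]; omega)
  refine ⟨?_, ?_⟩
  · have key : ∀ A, A ∈ 𝓐 → ∀ Q : Sylow p G, (Q : Subgroup G) ≤ A → A = f Q := by
      intro A hA Q hQ
      have hmem : A ∈ 𝓡 := Finset.mem_filter.mpr ⟨hA, Q, hQ⟩
      rw [← h5] at hmem
      obtain ⟨R, -, rfl⟩ := Finset.mem_image.mp hmem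
      rw [sylow_eq_of_le (h.nil _ (hf R)) Q R hQ (hfQ R)]
    intro A B hA hB Q hQA hQB
    rw [key A hA Q hQA, key B hB Q hQB]
  · have hc' : 𝓒.card = (Finset.univ : Finset (Sylow p G)).card := by
      rw [Finset.card_univ]; omega
    exact fun a b hab => Finset.card_image_iff.mp hc' (by simp) (by simp) hab

/-- Structure of the normalizer of a non-normal cyclic Sylow subgroup. -/
theorem cyclic_main {𝓐 : Finset (Subgroup G)} (h : IsNilMinCover 𝓐) (P : Sylow p G)
    (hc : IsCyclic (P : Subgroup G)) (hnn : ¬ (P : Subgroup G).Normal) :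
    (∃ A ∈ 𝓐, (P : Subgroup G) ≤ A ∧ centralizer ((P : Subgroup G) : Set G) = A) ∧
      IsCoatom (normalizer ((P : Subgroup G) : Set G)) ∧
      ∀ M : Subgroup G, IsCoatom M → centralizer ((P : Subgroup G) : Set G) ≤ M →
        M = normalizer ((P : Subgroup G) : Set G) := by
  classical
  haveI := Fintype.ofFinite (Sylow p G)
  have hnt : normalizer ((P : Subgroup G) : Set G) ≠ ⊤ := by
    intro ht
    exact hnn (normalizer_eq_top_iff.mp ht)
  have hct : centralizer ((P : Subgroup G) : Set G) ≠ ⊤ := by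
    intro ht
    apply hnt
    rw [eq_top_iff, ← ht]
    exact centralizer_le_normalizer _
  have hsec : ∃ s : Sylow p G → G, ∀ Q, s Q • P = Q := by
    have : ∀ Q : Sylow p G, ∃ x : G, x • P = Q := fun Q => MulAction.exists_smul_eq G P Q
    exact ⟨fun Q => (this Q).choose, fun Q => (this Q).choose_spec⟩
  obtain ⟨s, hs⟩ := hsec
  have huniq : ∀ M : Subgroup G, IsCoatom M → centralizer ((P : Subgroup G) : Set G) ≤ M →
      M = normalizer ((P : Subgroup G) : Set G) := by
    intro M hM hCM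
    have hle : M ≤ normalizer ((P : Subgroup G) : Set G) := by
      intro u hu
      by_contra hun
      have hne : u • P ≠ P := by
        intro he
        exact hun (Sylow.smul_eq_iff_mem_normalizer.mp he)
      set s' : Sylow p G → G := fun Q => if Q = P then 1 else if Q = u • P then u else s Q with hs'
      have hs'2 : ∀ Q, s' Q • P = Q := by
        intro Q
        simp only [hs']
        split_ifs with h1 h2
        · rw [one_smul, h1]
        · rw [h2]
        · exact hs Q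
      have hinj := (cyclic_count h P hc hM.1 hCM s' hs'2).2
      have : (fun Q : Sylow p G => MulAut.conj (s' Q) • M) P =
          (fun Q : Sylow p G => MulAut.conj (s' Q) • M) (u • P) := by
        have e1 : s' P = 1 := by simp [hs']
        have e2 : s' (u • P) = u := by simp [hs', hne]
        simp only [e1, e2]
        rw [map_one, one_smul]
        exact (Subgroup.conj_smul_eq_self_of_mem hu).symm
      exact hne (hinj this).symm
    rcases hM.le_iff.mp hle with h1 | h1
    · exact absurd h1 hnt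
    · exact h1.symm
  obtain ⟨M, hM, hCM⟩ : ∃ M, IsCoatom M ∧ centralizer ((P : Subgroup G) : Set G) ≤ M := by
    rcases eq_top_or_exists_le_coatom (centralizer ((P : Subgroup G) : Set G)) with h1 | h1
    · exact absurd h1 hct
    · exact h1
  refine ⟨?_, huniq M hM hCM ▸ hM, huniq⟩
  obtain ⟨A, hA, hPA, -⟩ := exists_mem_of_mem_centralizer h P hc
    (one_mem (centralizer ((P : Subgroup G) : Set G)))
  refine ⟨A, hA, hPA, le_antisymm ?_ ?_⟩
  · intro y hy
    obtain ⟨B, hB, hPB, hyB⟩ := exists_mem_of_mem_centralizer h P hc hy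
    rw [(cyclic_count h P hc hM.1 hCM s hs).1 A B hA hB P hPA hPB]
    exact hyB
  · exact le_centralizer_of_le (h.nil A hA) P hPA (isMulCommutative_of_cyc hc)

/-- Every proper subgroup containing the centralizer of a non-normal cyclic Sylow subgroup
normalizes that Sylow subgroup. -/
theorem le_normalizer_of_cyclic {𝓐 : Finset (Subgroup G)} (h : IsNilMinCover 𝓐) (P : Sylow p G)
    (hc : IsCyclic (P : Subgroup G)) (hnn : ¬ (P : Subgroup G).Normal) {H : Subgroup G}
    (hH : H ≠ ⊤) (hCH : centralizer ((P : Subgroup G) : Set G) ≤ H) :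
    H ≤ normalizer ((P : Subgroup G) : Set G) := by
  rcases eq_top_or_exists_le_coatom H with h1 | ⟨M, hM, hHM⟩
  · exact absurd h1 hH
  · rw [← (cyclic_main h P hc hnn).2.2 M hM (hCH.trans hHM)]
    exact hHM

/-- A Sylow subgroup generated by a single element. -/
theorem false_of_sylow_element {𝓐 : Finset (Subgroup G)} (h : IsNilMinCover 𝓐) {σ : G}
    (hσ : orderOf σ = p ^ (Nat.card G).factorization p) {H : Subgroup G} (hH : H ≠ ⊤)
    (hC : centralizer ((zpowers σ : Subgroup G) : Set G) ≤ H) {τ : G} (hτH : τ ∈ H)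
    (hτ : τ ∉ normalizer ((zpowers σ : Subgroup G) : Set G)) : False := by
  let P : Sylow p G := Sylow.ofCard (zpowers σ) (by rw [Nat.card_zpowers, hσ])
  have hP : (P : Subgroup G) = zpowers σ := Sylow.coe_ofCard _ _
  have hc : IsCyclic (P : Subgroup G) := by
    rw [hP]; infer_instance
  have hnn : ¬ (P : Subgroup G).Normal := by
    intro hn
    apply hτ
    rw [← hP, normalizer_eq_top_iff.mpr hn]
    trivial
  have := le_normalizer_of_cyclic h P hc hnn hH (by rw [hP]; exact hC) hτH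
  rw [hP] at this
  exact hτ this

end sylow

end Cfsg.Agent.Lib.NilCover.Basic
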