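import Mathlib
import Cfsg.Agent.Lib.NilCover.Basic
import Cfsg.Agent.Lib.SolvStruct.Fit

/-!
# Nilpotent minimal covers: central elements of prime order
-/

set_option autoImplicit false
set_option linter.style.haveILetI false
set_option linter.unusedSectionVars false

namespace Cfsg.Agent.Lib.NilCover.Central

open Subgroup Cfsg.Agent.Lib.OddLocal.CN Cfsg.Agent.Lib.NilCover.Basic
open scoped Pointwise

variable {G : Type*} [Group G] [Finite G]

/-- A nilpotent subgroup containing a nontrivial `p`-element contains a central element of order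
`p`. -/
theorem exists_central_of_order {A : Subgroup G} (hA : Group.IsNilpotent A) {x : G} (hxA : x ∈ A)
    {p : ℕ} [hp : Fact p.Prime] {k : ℕ} (hxp : x ^ p ^ k = 1) (hx1 : x ≠ 1) :
    ∃ y ∈ A, orderOf y = p ∧ ∀ a ∈ A, a * y = y * a := by
  haveI := hA
  obtain ⟨P⟩ : Nonempty (Sylow p A) := inferInstance
  have htf : ∀ (q : ℕ) (_ : Fact q.Prime) (P : Sylow q A), (P : Subgroup A).Normal :=
    (Group.isNilpotent_of_finite_tfae (G := A)).out 0 3 |>.mp hA
  haveI hPn : (P : Subgroup A).Normal := htf p inferInstance P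
  have hP : (P : Subgroup A) ≠ ⊥ := by
    intro hb
    have hz : IsPGroup p (zpowers (⟨x, hxA⟩ : A)) := by
      rw [IsPGroup.iff_card, Nat.card_zpowers]
      have hd : orderOf (⟨x, hxA⟩ : A) ∣ p ^ k := by
        rw [Subgroup.orderOf_mk]
        exact orderOf_dvd_of_pow_eq_one hxp
      obtain ⟨j, -, hj⟩ := (Nat.dvd_prime_pow hp.out).mp hd
      exact ⟨j, hj⟩
    obtain ⟨R, hR⟩ := hz.exists_le_sylow
    haveI := Sylow.unique_of_normal P hPn
    have hRP : R = P := Subsingleton.elim _ _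
    have hm : (⟨x, hxA⟩ : A) ∈ (P : Subgroup A) := by
      rw [← hRP]
      exact hR (mem_zpowers _)
    rw [hb, Subgroup.mem_bot] at hm
    exact hx1 (congrArg Subtype.val hm)
  have h1 := Cfsg.Agent.Lib.SolvStruct.Fit.inf_center_ne_bot (P : Subgroup A) hP
  obtain ⟨y, hy, hy1⟩ : ∃ y : A, y ∈ (P : Subgroup A) ⊓ center A ∧ y ≠ 1 := by
    obtain ⟨⟨y, hy⟩, hy1⟩ := Subgroup.ne_bot_iff_exists_ne_one.mp h1
    exact ⟨y, hy, fun he => hy1 (Subtype.ext he)⟩
  obtain ⟨j, hj⟩ := P.isPGroup' ⟨y, hy.1⟩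
  have hd : orderOf y ∣ p ^ j := orderOf_dvd_of_pow_eq_one (congrArg Subtype.val hj)
  obtain ⟨i, -, hi⟩ := (Nat.dvd_prime_pow hp.out).mp hd
  have hi0 : i ≠ 0 := by
    rintro rfl
    rw [pow_zero, orderOf_eq_one_iff] at hi
    exact hy1 hi
  have hyo : orderOf (y ^ p ^ (i - 1)) = p := by
    have h2 : p ^ (i - 1) ∣ orderOf y := by
      rw [hi]; exact pow_dvd_pow _ (by omega)
    rw [orderOf_pow_of_dvd (pow_ne_zero _ hp.out.ne_zero) h2, hi]
    rw [Nat.pow_div (by omega) hp.out.pos]
    have : i - (i - 1) = 1 := by omega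
    rw [this, pow_one]
  refine ⟨((y ^ p ^ (i - 1) : A) : G), (y ^ p ^ (i - 1)).2, ?_, ?_⟩
  · rw [Subgroup.orderOf_coe, hyo]
  · intro a ha
    have h3 : ((⟨a, ha⟩ : A)) * (y ^ p ^ (i - 1)) = (y ^ p ^ (i - 1)) * ⟨a, ha⟩ := by
      have h4 : y ^ p ^ (i - 1) ∈ center A := pow_mem hy.2 _
      exact (mem_center_iff.mp h4 _)
    exact congrArg Subtype.val h3

/-- Counting conjugates of a central element. -/
theorem central_index_le {𝓐 : Finset (Subgroup G)} (h : IsNilMinCover 𝓐) {x z : G} {p : ℕ}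
    [hp : Fact p.Prime] {k : ℕ} (hxp : x ^ p ^ k = 1) (hx1 : x ≠ 1)
    (hQ : ∀ y : G, orderOf y = p → y * x = x * y → y = z) {𝓒 : Finset (Subgroup G)}
    (hS : ∀ C ∈ 𝓒, C ≠ ⊤)
    (hcov : ∀ t g : G, g * (t * z * t⁻¹) = (t * z * t⁻¹) * g → ∃ C ∈ 𝓒, g ∈ C) :
    (centralizer ({z} : Set G)).index ≤ 𝓒.card := by
  classical
  haveI := Fintype.ofFinite (G ⧸ centralizer ({z} : Set G))
  have hmem : ∀ c : G ⧸ centralizer ({z} : Set G), ∃ A ∈ 𝓐, c.out * x * c.out⁻¹ ∈ A :=
    fun c => h.covers _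
  choose f hf hfx using hmem
  -- a central element of a member containing a conjugate of `x` is the conjugate of `z`
  have key : ∀ (t y : G) (A : Subgroup G), t * x * t⁻¹ ∈ A → y ∈ A → orderOf y = p →
      (∀ a ∈ A, a * y = y * a) → y = t * z * t⁻¹ := by
    intro t y A hxA hyA hyo hyc
    have h1 : t⁻¹ * y * t = z := by
      apply hQ
      · rw [← hyo]
        have : t⁻¹ * y * t = MulAut.conj t⁻¹ y := by simp
        rw [this, MulEquiv.orderOf_eq]
      · have h2 := hyc _ hxA
        calc t⁻¹ * y * t * x = t⁻¹ * (y * (t * x * t⁻¹)) * t := by group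
          _ = t⁻¹ * ((t * x * t⁻¹) * y) * t := by rw [h2]
          _ = x * (t⁻¹ * y * t) := by group
    rw [← h1]
    group
  have hcent : ∀ c : G ⧸ centralizer ({z} : Set G), ∃ y ∈ f c, orderOf y = p ∧
      (∀ a ∈ f c, a * y = y * a) ∧ y = c.out * z * c.out⁻¹ := by
    intro c
    have hconj : (c.out * x * c.out⁻¹) ^ p ^ k = 1 := by
      rw [conj_pow, hxp, mul_one, mul_inv_cancel]
    have hne : c.out * x * c.out⁻¹ ≠ 1 := by
      intro he
      apply hx1
      have : x = c.out⁻¹ * (c.out * x * c.out⁻¹) * c.out := by group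
      rw [this, he]
      group
    obtain ⟨y, hyA, hyo, hyc⟩ := exists_central_of_order (h.nil _ (hf c)) (hfx c) hconj hne
    exact ⟨y, hyA, hyo, hyc, key _ y _ (hfx c) hyA hyo hyc⟩
  have hinj : Function.Injective f := by
    intro c c' hcc
    obtain ⟨y, hyA, hyo, hyc, hy⟩ := hcent c
    have hy' := key c'.out y (f c) (by rw [hcc]; exact hfx c') hyA hyo hyc
    have h1 : c.out⁻¹ * c'.out ∈ centralizer ({z} : Set G) := by
      rw [mem_centralizer_singleton_iff]
      have h2 : c.out * z * c.out⁻¹ = c'.out * z * c'.out⁻¹ := hy.symm.trans hy'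
      calc c.out⁻¹ * c'.out * z = c.out⁻¹ * (c'.out * z * c'.out⁻¹) * c'.out := by group
        _ = c.out⁻¹ * (c.out * z * c.out⁻¹) * c'.out := by rw [h2]
        _ = z * (c.out⁻¹ * c'.out) := by group
    have h3 := QuotientGroup.eq.mpr h1
    simpa using h3
  have := h.card_le_of_injective f hf hinj hS (by
    intro c a ha
    obtain ⟨y, hyA, hyo, hyc, hy⟩ := hcent c
    apply hcov c.out a
    rw [← hy]
    exact hyc a ha)
  rwa [← Nat.card_eq_fintype_card, ← Subgroup.index] at this

/-- If the centralizer of `z` is properly contained in a proper subgroup then we have a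
contradiction. -/
theorem central_contra {𝓐 : Finset (Subgroup G)} (h : IsNilMinCover 𝓐) {x z : G} {p : ℕ}
    [hp : Fact p.Prime] {k : ℕ} (hxp : x ^ p ^ k = 1) (hx1 : x ≠ 1)
    (hQ : ∀ y : G, orderOf y = p → y * x = x * y → y = z) {H : Subgroup G} (hH : H ≠ ⊤)
    (hC : centralizer ({z} : Set G) ≤ H) {τ : G} (hτ : τ ∈ H) (hτz : τ * z ≠ z * τ) : False := by
  classical
  haveI := Fintype.ofFinite (G ⧸ H)
  let 𝓒 : Finset (Subgroup G) := Finset.univ.image (fun c : G ⧸ H => MulAut.conj c.out • H)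
  have h1 : (centralizer ({z} : Set G)).index ≤ 𝓒.card := by
    refine central_index_le h hxp hx1 hQ ?_ ?_
    · intro C hC
      obtain ⟨c, -, rfl⟩ := Finset.mem_image.mp hC
      exact conj_smul_ne_top hH _
    · intro t g hg
      refine ⟨MulAut.conj ((QuotientGroup.mk t : G ⧸ H)).out • H,
        Finset.mem_image_of_mem _ (Finset.mem_univ _), ?_⟩
      have hm : t⁻¹ * ((QuotientGroup.mk t : G ⧸ H)).out ∈ H := by
        have := QuotientGroup.eq.mp (QuotientGroup.out_eq' (QuotientGroup.mk t : G ⧸ H)).symm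
        exact this
      set w := t⁻¹ * ((QuotientGroup.mk t : G ⧸ H)).out with hw
      have he : ((QuotientGroup.mk t : G ⧸ H)).out = t * w := by
        rw [hw]; group
      rw [he, map_mul, mul_smul, Subgroup.conj_smul_eq_self_of_mem hm]
      rw [Subgroup.mem_pointwise_smul_iff_inv_smul_mem]
      apply hC
      rw [mem_centralizer_singleton_iff]
      simp only [MulAut.smul_def, MulAut.conj_inv_apply]
      calc t⁻¹ * g * t * z = t⁻¹ * (g * (t * z * t⁻¹)) * t := by group
        _ = t⁻¹ * ((t * z * t⁻¹) * g) * t := by rw [hg]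
        _ = z * (t⁻¹ * g * t) := by group
  have h2 : 𝓒.card ≤ H.index := by
    rw [Subgroup.index, Nat.card_eq_fintype_card, ← Finset.card_univ]
    exact Finset.card_image_le
  have h3 : H.index ≤ (centralizer ({z} : Set G)).index :=
    Nat.le_of_dvd (Nat.pos_of_ne_zero Subgroup.index_ne_zero_of_finite) (Subgroup.index_dvd_of_le hC)
  have h4 : (centralizer ({z} : Set G)).index = H.index := by omega
  have h5 : Nat.card H ≤ Nat.card (centralizer ({z} : Set G)) := by
    have e1 := Subgroup.index_mul_card H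
    have e2 := Subgroup.index_mul_card (centralizer ({z} : Set G))
    rw [h4] at e2
    have hpos : 0 < H.index := Nat.pos_of_ne_zero Subgroup.index_ne_zero_of_finite
    exact (Nat.eq_of_mul_eq_mul_left hpos (e1.trans e2.symm)).le
  have h6 := Subgroup.eq_of_le_of_card_ge hC h5
  have h7 : τ ∈ centralizer ({z} : Set G) := by rw [h6]; exact hτ
  exact hτz (mem_centralizer_singleton_iff.mp h7)

end Cfsg.Agent.Lib.NilCover.Central
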