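import Mathlib
import Cfsg.Agent.Lib.NilCover.Basic
import Cfsg.Agent.Lib.Classical.SLBasic

/-!
# Nilpotent minimal covers of subgroups of `PGL`: the generic element argument
-/

set_option autoImplicit false
set_option linter.style.haveILetI false
set_option linter.unusedSectionVars false

namespace Cfsg.Agent.Lib.NilCover.PGLBase

open Matrix Subgroup Cfsg.Agent.Lib.NilCover.Basic

variable {F : Type*} [Field F] {n : ℕ}

/-- The projective group, as in the statements. -/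
abbrev PG (n : ℕ) (F : Type*) [Field F] := GL (Fin n) F ⧸ Subgroup.center (GL (Fin n) F)

/-- The quotient map. -/
noncomputable abbrev prj : GL (Fin n) F →* PG n F :=
  QuotientGroup.mk' (Subgroup.center (GL (Fin n) F))

/-- Scalars. -/
noncomputable abbrev sc (c : Fˣ) : GL (Fin n) F := GeneralLinearGroup.scalar (Fin n) c

theorem sc_val (c : Fˣ) : ((sc c : GL (Fin n) F) : Matrix (Fin n) (Fin n) F) = (c : F) • 1 := by
  ext i j
  simp [sc, GeneralLinearGroup.coe_scalar, Matrix.scalar_apply, Matrix.one_apply, Matrix.diagonal_apply]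

theorem sc_mulVec (c : Fˣ) (v : Fin n → F) :
    (sc c : GL (Fin n) F).val *ᵥ v = (c : F) • v := by
  rw [sc_val, Matrix.smul_mulVec, Matrix.one_mulVec]

theorem sc_mul_comm (c : Fˣ) (g : GL (Fin n) F) : sc c * g = g * sc c :=
  GeneralLinearGroup.scalar_commute c g

theorem prj_sc (c : Fˣ) : prj (sc c : GL (Fin n) F) = 1 := by
  rw [QuotientGroup.mk'_apply, QuotientGroup.eq_one_iff, GeneralLinearGroup.center_eq_range_scalar]
  exact ⟨c, rfl⟩

theorem prj_eq_iff {g g' : GL (Fin n) F} : prj g = prj g' ↔ ∃ c : Fˣ, g' = sc c * g := by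
  constructor
  · intro h
    have h1 : g⁻¹ * g' ∈ Subgroup.center (GL (Fin n) F) := QuotientGroup.eq.mp h
    rw [GeneralLinearGroup.center_eq_range_scalar] at h1
    obtain ⟨c, hc⟩ := h1
    refine ⟨c, ?_⟩
    rw [sc_mul_comm]
    have hc' : sc c = g⁻¹ * g' := hc
    rw [hc']
    group
  · rintro ⟨c, rfl⟩
    rw [map_mul, prj_sc, one_mul]

theorem prj_comm_iff {g x : GL (Fin n) F} :
    prj g * prj x = prj x * prj g ↔ ∃ c : Fˣ, g * x * g⁻¹ = sc c * x := by
  rw [← map_mul, ← map_mul, eq_comm, prj_eq_iff]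
  constructor
  · rintro ⟨c, hc⟩
    refine ⟨c, ?_⟩
    rw [hc, mul_assoc, mul_assoc, mul_inv_cancel, mul_one]
  · rintro ⟨c, hc⟩
    refine ⟨c, ?_⟩
    have : g * x = (g * x * g⁻¹) * g := by group
    rw [this, hc, mul_assoc]

theorem prj_conj_pow_iff {g x : GL (Fin n) F} {k : ℕ} :
    prj g * prj x * (prj g)⁻¹ = (prj x) ^ k ↔ ∃ c : Fˣ, g * x * g⁻¹ = sc c * x ^ k := by
  rw [← map_inv, ← map_mul, ← map_mul, ← map_pow, eq_comm, prj_eq_iff]

theorem mulVec_mul (a b : GL (Fin n) F) (v : Fin n → F) :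
    (a * b).val *ᵥ v = a.val *ᵥ (b.val *ᵥ v) := by
  rw [Units.val_mul, Matrix.mulVec_mulVec]

theorem one_mulVec' (v : Fin n → F) : (1 : GL (Fin n) F).val *ᵥ v = v := by
  rw [Units.val_one, Matrix.one_mulVec]

theorem mulVec_inv_mulVec (a : GL (Fin n) F) (v : Fin n → F) : a⁻¹.val *ᵥ (a.val *ᵥ v) = v := by
  rw [← mulVec_mul, inv_mul_cancel, one_mulVec']

theorem mulVec_mulVec_inv (a : GL (Fin n) F) (v : Fin n → F) : a.val *ᵥ (a⁻¹.val *ᵥ v) = v := by
  rw [← mulVec_mul, mul_inv_cancel, one_mulVec']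

theorem mulVec_injective (a : GL (Fin n) F) {v w : Fin n → F} (h : a.val *ᵥ v = a.val *ᵥ w) :
    v = w := by
  have := congrArg (fun y => a⁻¹.val *ᵥ y) h
  simpa only [mulVec_inv_mulVec] using this

theorem pow_mulVec_fixed {x : GL (Fin n) F} {u : Fin n → F} (h : x.val *ᵥ u = u) (k : ℕ) :
    (x ^ k).val *ᵥ u = u := by
  induction k with
  | zero => rw [pow_zero, one_mulVec']
  | succ k ih => rw [pow_succ, mulVec_mul, h, ih]

theorem eq_one_of_smul_fixed {c : Fˣ} {u : Fin n → F} (hu : u ≠ 0) (h : (c : F) • u = u) : c = 1 := by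
  obtain ⟨i, hi⟩ := Function.ne_iff.mp hu
  have h1 := congrFun h i
  simp only [Pi.smul_apply, smul_eq_mul] at h1
  have h2 : (c : F) = 1 := mul_right_cancel₀ hi (by rw [h1, one_mul])
  exact Units.ext h2

/-- If `x` fixes a nonzero vector then its powers that are scalars are trivial. -/
theorem pow_eq_one_of_prj {x : GL (Fin n) F} {u : Fin n → F} (hu : u ≠ 0) (h : x.val *ᵥ u = u)
    {k : ℕ} (hk : (prj x) ^ k = 1) : x ^ k = 1 := by
  have h1 : prj (1 : GL (Fin n) F) = prj (x ^ k) := by rw [map_one, map_pow, hk]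
  obtain ⟨c, hc⟩ := prj_eq_iff.mp h1
  rw [mul_one] at hc
  have h2 := pow_mulVec_fixed h k
  rw [hc, sc_mulVec] at h2
  rw [hc, eq_one_of_smul_fixed hu h2]
  exact map_one _

theorem orderOf_prj {x : GL (Fin n) F} {u : Fin n → F} (hu : u ≠ 0) (h : x.val *ᵥ u = u) :
    orderOf (prj x) = orderOf x := by
  apply Nat.dvd_antisymm (orderOf_map_dvd _ _)
  apply orderOf_dvd_of_pow_eq_one
  exact pow_eq_one_of_prj hu h (pow_orderOf_eq_one _)

/-! ### Elements of determinant one -/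

/-- Transvection matrix. -/
def tmat (w φ : Fin n → F) : Matrix (Fin n) (Fin n) F := 1 + vecMulVec w φ

theorem det_tmat {w φ : Fin n → F} (h : φ ⬝ᵥ w = 0) : (tmat w φ).det = 1 := by
  have h1 := Matrix.det_one_add_replicateCol_mul_replicateRow (ι := Unit) w φ
  have h2 : replicateCol Unit w * replicateRow Unit φ = vecMulVec w φ := by
    rw [Matrix.vecMulVec_eq (ι := Unit)]
  rw [h2, h, add_zero] at h1
  exact h1

theorem tmat_mulVec (w φ v : Fin n → F) : tmat w φ *ᵥ v = v + (φ ⬝ᵥ v) • w := by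
  rw [tmat, Matrix.add_mulVec, Matrix.one_mulVec, Matrix.vecMulVec_mulVec]
  ext i
  simp [mul_comm]

/-- Transvection in `SL`. -/
def tv (w φ : Fin n → F) (h : φ ⬝ᵥ w = 0) : SpecialLinearGroup (Fin n) F := ⟨tmat w φ, det_tmat h⟩

theorem tv_val (w φ : Fin n → F) (h : φ ⬝ᵥ w = 0) :
    ((SpecialLinearGroup.toGL (tv w φ h)) : GL (Fin n) F).val = tmat w φ := rfl

/-- The averaging matrix. -/
noncomputable def avg (x : Matrix (Fin n) (Fin n) F) (N : ℕ) : Matrix (Fin n) (Fin n) F :=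
  (N : F)⁻¹ • ∑ i ∈ Finset.range N, x ^ i

theorem sum_pow_succ_eq {x : Matrix (Fin n) (Fin n) F} {N : ℕ} (h : x ^ N = 1) :
    ∑ i ∈ Finset.range N, x ^ (i + 1) = ∑ i ∈ Finset.range N, x ^ i := by
  have h2 := Finset.sum_range_succ (fun i => x ^ i) N
  have h3 := Finset.sum_range_succ' (fun i => x ^ i) N
  rw [h2, h, pow_zero] at h3
  exact (add_right_cancel h3).symm

theorem mul_avg {x : Matrix (Fin n) (Fin n) F} {N : ℕ} (h : x ^ N = 1) : x * avg x N = avg x N := by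
  rw [avg, Matrix.mul_smul, Finset.mul_sum]
  congr 1
  rw [← sum_pow_succ_eq h]
  exact Finset.sum_congr rfl fun i _ => (pow_succ' x i).symm

theorem avg_mul {x : Matrix (Fin n) (Fin n) F} {N : ℕ} (h : x ^ N = 1) : avg x N * x = avg x N := by
  rw [avg, Matrix.smul_mul, Finset.sum_mul]
  congr 1
  rw [← sum_pow_succ_eq h]
  exact Finset.sum_congr rfl fun i _ => (pow_succ x i).symm

theorem avg_pow_mul {x : Matrix (Fin n) (Fin n) F} {N : ℕ} (h : x ^ N = 1) (k : ℕ) :
    avg x N * x ^ k = avg x N := by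
  induction k with
  | zero => rw [pow_zero, mul_one]
  | succ k ih => rw [pow_succ, ← mul_assoc, ih, avg_mul h]

theorem avg_mulVec_fixed {x : Matrix (Fin n) (Fin n) F} {N : ℕ} (hN : (N : F) ≠ 0) {v : Fin n → F}
    (h : x *ᵥ v = v) : avg x N *ᵥ v = v := by
  have hpow : ∀ k : ℕ, x ^ k *ᵥ v = v := by
    intro k
    induction k with
    | zero => rw [pow_zero, Matrix.one_mulVec]
    | succ k ih => rw [pow_succ, ← Matrix.mulVec_mulVec, h, ih]
  rw [avg, Matrix.smul_mulVec, Matrix.sum_mulVec]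
  simp only [hpow, Finset.sum_const, Finset.card_range]
  rw [← Nat.cast_smul_eq_nsmul F, smul_smul, inv_mul_cancel₀ hN, one_smul]

theorem exists_functional {x : GL (Fin n) F} {N : ℕ} (hN : (N : F) ≠ 0) (hxN : x ^ N = 1)
    (hx1 : x ≠ 1) :
    ∃ φ : Fin n → F, φ ≠ 0 ∧ (∀ v, x.val *ᵥ v = v → φ ⬝ᵥ v = 0) ∧
      ∀ y : Matrix (Fin n) (Fin n) F, y ^ N = 1 → y = x.val → (∀ v, φ ⬝ᵥ (x.val *ᵥ v) = φ ⬝ᵥ v) → False := by
  have hxN' : x.val ^ N = 1 := by
    rw [← Units.val_pow_eq_pow_val, hxN, Units.val_one]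
  set E := avg x.val N with hE
  have hE1 : E ≠ 1 := by
    intro h
    have h1 := mul_avg hxN'
    rw [← hE, h, mul_one] at h1
    exact hx1 (Units.ext h1)
  have hne : (1 - E) ≠ 0 := fun h => hE1 (sub_eq_zero.mp h).symm
  obtain ⟨i, j, hij⟩ : ∃ i j, (1 - E) i j ≠ 0 := by
    by_contra hall
    push Not at hall
    exact hne (Matrix.ext hall)
  let φ : Fin n → F := fun j => (1 - E) i j
  have hφv : ∀ v, φ ⬝ᵥ v = ((1 - E) *ᵥ v) i := fun v => rfl
  refine ⟨φ, fun h => hij (congrFun h j), ?_, ?_⟩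
  · intro v hv
    rw [hφv, Matrix.sub_mulVec, Matrix.one_mulVec, avg_mulVec_fixed hN hv]
    simp
  · intro y _ _ hinv
    have hEE : φ ⬝ᵥ (E *ᵥ (Pi.single j 1)) = φ ⬝ᵥ (Pi.single j 1 : Fin n → F) := by
      -- invariance under `x` implies invariance under the average
      have hpow : ∀ (k : ℕ) (v : Fin n → F), φ ⬝ᵥ (x.val ^ k *ᵥ v) = φ ⬝ᵥ v := by
        intro k v
        induction k with
        | zero => rw [pow_zero, Matrix.one_mulVec]
        | succ k ih => rw [pow_succ', ← Matrix.mulVec_mulVec, hinv, ih]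
      rw [hE, avg, Matrix.smul_mulVec, Matrix.sum_mulVec, dotProduct_smul, dotProduct_sum]
      simp only [hpow, Finset.sum_const, Finset.card_range]
      rw [← Nat.cast_smul_eq_nsmul F, smul_smul, inv_mul_cancel₀ hN, one_smul]
    have hfix : x.val *ᵥ (E *ᵥ (Pi.single j 1 : Fin n → F)) = E *ᵥ (Pi.single j 1 : Fin n → F) := by
      rw [Matrix.mulVec_mulVec, mul_avg hxN']
    have hzero : φ ⬝ᵥ (E *ᵥ (Pi.single j 1 : Fin n → F)) = 0 := by
      rw [hφv, Matrix.sub_mulVec, Matrix.one_mulVec, avg_mulVec_fixed hN hfix]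
      simp
    rw [hzero] at hEE
    have : φ j = 0 := by
      rw [hEE]
      simp [dotProduct_single]
    exact hij this

/-- A transvection fixing the fixed space of `x` but not normalizing `⟨x⟩` modulo scalars. -/
theorem exists_tau {x : GL (Fin n) F} {N : ℕ} (hN : (N : F) ≠ 0) (hxN : x ^ N = 1) (hx1 : x ≠ 1)
    {u : Fin n → F} (hu : u ≠ 0) (hxu : x.val *ᵥ u = u) :
    ∃ τ : SpecialLinearGroup (Fin n) F,
      (∀ v, x.val *ᵥ v = v → (SpecialLinearGroup.toGL τ).val *ᵥ v = v) ∧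
        ∀ (k : ℕ) (c : Fˣ), SpecialLinearGroup.toGL τ * x * (SpecialLinearGroup.toGL τ)⁻¹ ≠ sc c * x ^ k := by
  obtain ⟨φ, -, hφU, hφ⟩ := exists_functional hN hxN hx1
  have hφu : φ ⬝ᵥ u = 0 := hφU u hxu
  refine ⟨tv u φ hφu, ?_, ?_⟩
  · intro v hv
    rw [tv_val, tmat_mulVec, hφU v hv, zero_smul, add_zero]
  · intro k c hc
    have hxN' : x.val ^ N = 1 := by
      rw [← Units.val_pow_eq_pow_val, hxN, Units.val_one]
    set τ := SpecialLinearGroup.toGL (tv u φ hφu) with hτ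
    have hτv : ∀ v, τ.val *ᵥ v = v + (φ ⬝ᵥ v) • u := fun v => tmat_mulVec u φ v
    have hτu : τ.val *ᵥ u = u := by
      rw [hτv, hφu, zero_smul, add_zero]
    have h1 : τ * x = sc c * x ^ k * τ := by
      rw [← hc]
      group
    have hc1 : c = 1 := by
      have h2 := congrArg (fun g : GL (Fin n) F => g.val *ᵥ u) h1
      simp only [mulVec_mul] at h2
      rw [hxu, hτu, pow_mulVec_fixed hxu, sc_mulVec] at h2
      exact eq_one_of_smul_fixed hu h2.symm
    subst hc1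
    have hsc1 : (sc 1 : GL (Fin n) F) = 1 := map_one _
    rw [hsc1, one_mul] at h1
    refine hφ x.val hxN' rfl ?_
    intro v
    have h2 := congrArg (fun g : GL (Fin n) F => g.val *ᵥ v) h1
    simp only [mulVec_mul] at h2
    rw [hτv, hτv, Matrix.mulVec_add, Matrix.mulVec_smul, pow_mulVec_fixed hxu] at h2
    -- apply the average
    have h3 := congrArg (fun y => avg x.val N *ᵥ y) h2
    simp only [Matrix.mulVec_add, Matrix.mulVec_smul] at h3
    have hEu : avg x.val N *ᵥ u = u := avg_mulVec_fixed hN hxu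
    have hEx : avg x.val N *ᵥ (x.val *ᵥ v) = avg x.val N *ᵥ v := by
      rw [Matrix.mulVec_mulVec, avg_mul hxN']
    have hExk : avg x.val N *ᵥ ((x ^ k).val *ᵥ v) = avg x.val N *ᵥ v := by
      rw [Matrix.mulVec_mulVec, Units.val_pow_eq_pow_val, avg_pow_mul hxN']
    rw [hEx, hExk, hEu] at h3
    have h4 : (φ ⬝ᵥ (x.val *ᵥ v)) • u = (φ ⬝ᵥ v) • u := add_left_cancel h3
    obtain ⟨i, hi⟩ := Function.ne_iff.mp hu
    have h5 := congrFun h4 i
    simp only [Pi.smul_apply, smul_eq_mul] at h5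
    exact mul_right_cancel₀ hi h5

/-- A transvection moving a fixed vector of `x` outside the fixed space. -/
theorem exists_moving {x : GL (Fin n) F} (hx1 : x ≠ 1) {u : Fin n → F} (hu : u ≠ 0)
    (hxu : x.val *ᵥ u = u) :
    ∃ t : SpecialLinearGroup (Fin n) F,
      x.val *ᵥ ((SpecialLinearGroup.toGL t).val *ᵥ u) ≠ (SpecialLinearGroup.toGL t).val *ᵥ u := by
  obtain ⟨v₀, hv₀⟩ : ∃ v, x.val *ᵥ v ≠ v := by
    by_contra hall
    push Not at hall
    apply hx1
    apply Units.ext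
    have : x.val = 1 := by
      apply Matrix.ext_of_mulVec_single
      intro j
      rw [hall, Matrix.one_mulVec]
    rw [this, Units.val_one]
  obtain ⟨i, hi⟩ := Function.ne_iff.mp hu
  let φ : Fin n → F := Pi.single i (u i)⁻¹
  have hφu : φ ⬝ᵥ u = 1 := by
    simp [φ, single_dotProduct, inv_mul_cancel₀ hi]
  let w : Fin n → F := v₀ - (φ ⬝ᵥ v₀) • u
  have hφw : φ ⬝ᵥ w = 0 := by
    simp [w, dotProduct_sub, dotProduct_smul, hφu]
  refine ⟨tv w φ hφw, ?_⟩
  rw [tv_val, tmat_mulVec, hφu, one_smul]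
  intro h
  rw [Matrix.mulVec_add, hxu] at h
  have h2 : x.val *ᵥ w = w := add_left_cancel h
  simp only [w, Matrix.mulVec_sub, Matrix.mulVec_smul, hxu] at h2
  exact hv₀ (sub_left_inj.mp h2)

/-- Stabilizer in `GL` of the fixed space of `x`. -/
def Stab (x : GL (Fin n) F) : Subgroup (GL (Fin n) F) where
  carrier := {g | ∀ v, x.val *ᵥ v = v ↔ x.val *ᵥ (g.val *ᵥ v) = g.val *ᵥ v}
  one_mem' := by
    intro v
    simp only [one_mulVec']
  mul_mem' := by
    intro a b ha hb v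
    rw [hb v, ha (b.val *ᵥ v), mulVec_mul]
  inv_mem' := by
    intro a ha v
    have := ha (a⁻¹.val *ᵥ v)
    rw [mulVec_mulVec_inv] at this
    exact this.symm

theorem mem_Stab {x g : GL (Fin n) F} :
    g ∈ Stab x ↔ ∀ v, x.val *ᵥ v = v ↔ x.val *ᵥ (g.val *ᵥ v) = g.val *ᵥ v := Iff.rfl

theorem sc_mul_mem_Stab {x g : GL (Fin n) F} {c : Fˣ} (hg : sc c * g ∈ Stab x) : g ∈ Stab x := by
  intro v
  have := hg v
  rw [mulVec_mul, sc_mulVec, Matrix.mulVec_smul] at this
  rw [this]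
  constructor
  · intro h
    have h1 : (c : F) ≠ 0 := c.ne_zero
    exact smul_right_injective _ h1 h
  · intro h
    rw [h]

theorem mem_Stab_of_comm {x g : GL (Fin n) F} (h : g * x = x * g) : g ∈ Stab x := by
  intro v
  have h1 : x.val *ᵥ (g.val *ᵥ v) = g.val *ᵥ (x.val *ᵥ v) := by
    rw [← mulVec_mul, ← mulVec_mul, h]
  rw [h1]
  constructor
  · intro h2
    rw [h2]
  · intro h2
    exact mulVec_injective g h2

theorem mem_Stab_of_fix {x g : GL (Fin n) F} (h : ∀ v, x.val *ᵥ v = v → g.val *ᵥ v = v) :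
    g ∈ Stab x := by
  intro v
  constructor
  · intro h2
    rw [h v h2, h2]
  · intro h2
    have h3 := h _ h2
    have h4 : g.val *ᵥ v = v := mulVec_injective g h3
    rwa [h4] at h2

variable [Fintype F]

/-- Image in a subgroup `G` of `Stab x`. -/
noncomputable def Hsub (G : Subgroup (PG n F)) (x : GL (Fin n) F) : Subgroup G :=
  ((Stab x).map prj).comap G.subtype

theorem mem_Hsub {G : Subgroup (PG n F)} {x : GL (Fin n) F} {s : G} :
    s ∈ Hsub G x ↔ ∃ g ∈ Stab x, prj g = (s : PG n F) := Iff.rfl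

theorem mem_Hsub_prj {G : Subgroup (PG n F)} {x g : GL (Fin n) F} (hg : prj g ∈ G) :
    (⟨prj g, hg⟩ : G) ∈ Hsub G x ↔ g ∈ Stab x := by
  rw [mem_Hsub]
  constructor
  · rintro ⟨g', hg', he⟩
    obtain ⟨c, hc⟩ := prj_eq_iff.mp he
    rw [hc] at hg
    -- `g = c • g'`
    have h2 : prj g = prj g' := he.symm
    obtain ⟨c', hc'⟩ := prj_eq_iff.mp h2
    rw [hc'] at hg'
    exact sc_mul_mem_Stab hg'
  · intro h
    exact ⟨g, h, rfl⟩

theorem Hsub_ne_top {G : Subgroup (PG n F)}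
    (hG : ((SpecialLinearGroup.toGL : SpecialLinearGroup (Fin n) F →* GL (Fin n) F).range).map prj ≤ G)
    {x : GL (Fin n) F} (hx1 : x ≠ 1) {u : Fin n → F} (hu : u ≠ 0) (hxu : x.val *ᵥ u = u) :
    Hsub G x ≠ ⊤ := by
  intro htop
  obtain ⟨t, ht⟩ := exists_moving hx1 hu hxu
  have hm : prj (SpecialLinearGroup.toGL t) ∈ G := hG ⟨_, ⟨t, rfl⟩, rfl⟩
  have h1 : (⟨prj (SpecialLinearGroup.toGL t), hm⟩ : G) ∈ Hsub G x := htop ▸ mem_top _
  rw [mem_Hsub_prj] at h1
  exact ht ((h1 u).mp hxu)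

/-- The generic argument: an element of prime power order generating a Sylow subgroup modulo
scalars, and fixing a vector, yields a contradiction. -/
theorem no_cover_of_element {G : Subgroup (PG n F)}
    (hG : ((SpecialLinearGroup.toGL : SpecialLinearGroup (Fin n) F →* GL (Fin n) F).range).map prj ≤ G)
    {𝓐 : Finset (Subgroup G)} (h : IsNilMinCover 𝓐) {r a : ℕ} [hr : Fact r.Prime] (hrF : (r : F) ≠ 0)
    {x : GL (Fin n) F} (hxo : orderOf x = r ^ a) (ha : 1 ≤ a) {u : Fin n → F} (hu : u ≠ 0)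
    (hxu : x.val *ᵥ u = u) (h3 : ∀ (g : GL (Fin n) F) (c : Fˣ), g * x * g⁻¹ = sc c * x → c = 1)
    (hxG : prj x ∈ G) (h5 : ¬ r ^ (a + 1) ∣ Nat.card (PG n F)) : False := by
  have hx1 : x ≠ 1 := by
    intro h1
    rw [h1, orderOf_one] at hxo
    have : 1 < r ^ a := Nat.one_lt_pow (by omega) hr.out.one_lt
    omega
  have hxN : x ^ (r ^ a) = 1 := by
    rw [← hxo, pow_orderOf_eq_one]
  have hN : ((r ^ a : ℕ) : F) ≠ 0 := by
    rw [Nat.cast_pow]
    exact pow_ne_zero _ hrF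
  let s : G := ⟨prj x, hxG⟩
  have hso : orderOf s = r ^ a := by
    rw [Subgroup.orderOf_mk, orderOf_prj hu hxu, hxo]
  have hfac : (Nat.card G).factorization r = a := by
    have hcG : Nat.card G ≠ 0 := Nat.card_pos.ne'
    have h1 : r ^ a ∣ Nat.card G := hso ▸ orderOf_dvd_natCard s
    have h2 : ¬ r ^ (a + 1) ∣ Nat.card G := fun hd =>
      h5 (hd.trans (Subgroup.card_subgroup_dvd_card G))
    have h4 : a ≤ (Nat.card G).factorization r := (hr.out.pow_dvd_iff_le_factorization hcG).mp h1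
    have h6 : ¬ a + 1 ≤ (Nat.card G).factorization r := fun hle =>
      h2 ((hr.out.pow_dvd_iff_le_factorization hcG).mpr hle)
    omega
  obtain ⟨τ, hτ1, hτ2⟩ := exists_tau hN hxN hx1 hu hxu
  have hτm : prj (SpecialLinearGroup.toGL τ) ∈ G := hG ⟨_, ⟨τ, rfl⟩, rfl⟩
  refine false_of_sylow_element (p := r) h (σ := s) (by rw [hso, hfac]) (H := Hsub G x)
    (Hsub_ne_top hG hx1 hu hxu) ?_ (τ := ⟨_, hτm⟩) ?_ ?_
  · intro c hc
    obtain ⟨g, hg⟩ := QuotientGroup.mk'_surjective _ (c : PG n F)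
    have hgG : prj g ∈ G := by
      rw [hg]
      exact c.2
    have h1 : c * s = s * c := ((mem_centralizer_iff.mp hc) s (mem_zpowers s)).symm
    have h2 : prj g * prj x = prj x * prj g := by
      have := congrArg Subtype.val h1
      simpa only [Subgroup.coe_mul, hg] using this
    obtain ⟨c', hc'⟩ := prj_comm_iff.mp h2
    have hc1 := h3 g c' hc'
    subst hc1
    have hsc1 : (sc 1 : GL (Fin n) F) = 1 := map_one _
    rw [hsc1, one_mul] at hc'
    have h4 : g * x = x * g := by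
      have : g * x = (g * x * g⁻¹) * g := by group
      rw [this, hc']
    have h5' : (⟨prj g, hgG⟩ : G) ∈ Hsub G x := (mem_Hsub_prj hgG).mpr (mem_Stab_of_comm h4)
    have : c = ⟨prj g, hgG⟩ := Subtype.ext hg.symm
    rwa [this]
  · exact (mem_Hsub_prj hτm).mpr (mem_Stab_of_fix hτ1)
  · intro hnorm
    have h1 : (⟨_, hτm⟩ : G) * s * (⟨_, hτm⟩ : G)⁻¹ ∈ zpowers s :=
      (mem_normalizer_iff.mp hnorm s).mp (mem_zpowers s)
    obtain ⟨k, hk⟩ := (mem_powers_iff_mem_zpowers.mpr h1)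
    have h2 : prj (SpecialLinearGroup.toGL τ) * prj x * (prj (SpecialLinearGroup.toGL τ))⁻¹ =
        (prj x) ^ k := by
      have := congrArg Subtype.val hk
      simpa only [Subgroup.coe_mul, Subgroup.coe_inv, Subgroup.coe_pow] using this.symm
    obtain ⟨c, hc⟩ := prj_conj_pow_iff.mp h2
    exact hτ2 k c hc

end Cfsg.Agent.Lib.NilCover.PGLBase
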