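import Mathlib
import Cfsg.Agent.Lib.NilCover.PGLBase
import Cfsg.Agent.Lib.Zsig.Basic

/-!
# Nilpotent minimal covers of subgroups of `PGL`: primitive prime divisors
-/

set_option autoImplicit false
set_option linter.style.haveILetI false
set_option linter.unusedSectionVars false

namespace Cfsg.Agent.Lib.NilCover.PGLk

open Matrix Subgroup Cfsg.Agent.Lib.NilCover.Basic Cfsg.Agent.Lib.NilCover.PGLBase

section numbers

theorem not_dvd_pow_sub_one {q r k j : ℕ} (hr : r.Prime) (hq : 2 ≤ q) (hk : 0 < k) (hrk : r ∣ q ^ k - 1)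
    (hprim : ∀ i, 0 < i → i < k → ¬ r ∣ q ^ i - 1) (hj : 0 < j) (hjk : j ≠ k) (hj2 : j < 2 * k) :
    ¬ r ∣ q ^ j - 1 := by
  intro hd
  rcases Nat.lt_or_gt_of_ne hjk with h | h
  · exact hprim j hj h hd
  · have hrq : Nat.Coprime r q := by
      rw [Nat.coprime_comm]
      by_contra hnc
      have h1 : r ∣ q := by
        by_contra hnd
        exact hnc ((hr.coprime_iff_not_dvd.mpr hnd).symm)
      have h2 : r ∣ q ^ k := dvd_pow h1 hk.ne'
      have h3 : 1 ≤ q ^ k := Nat.one_le_pow _ _ (by omega)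
      have h4 : r ∣ 1 := by
        have := (Nat.dvd_sub h2 hrk)
        rwa [Nat.sub_sub_self h3] at this
      exact hr.one_lt.ne' (Nat.dvd_one.mp h4)
    have h1 : 1 ≡ q ^ k [MOD r] := (Nat.modEq_iff_dvd' (Nat.one_le_pow _ _ (by omega))).mpr hrk
    have h2 : 1 ≡ q ^ j [MOD r] := (Nat.modEq_iff_dvd' (Nat.one_le_pow _ _ (by omega))).mpr hd
    have h3 : q ^ j = q ^ k * q ^ (j - k) := by
      rw [← pow_add]; congr 1; omega
    have h4 : q ^ k * 1 ≡ q ^ k * q ^ (j - k) [MOD r] := by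
      rw [mul_one, ← h3]
      exact h1.symm.trans h2
    have h5 : 1 ≡ q ^ (j - k) [MOD r] :=
      Nat.ModEq.cancel_left_of_coprime
        (by rw [Nat.gcd_comm]; exact (Nat.Coprime.pow_right k hrq).symm) h4
    exact hprim (j - k) (by omega) (by omega)
      ((Nat.modEq_iff_dvd' (Nat.one_le_pow _ _ (by omega))).mp h5)

theorem not_dvd_card_GL {q n k r a : ℕ} (hr : r.Prime) (hq : 2 ≤ q) (hk : 0 < k) (hkn : k ≤ n)
    (h2k : n < 2 * k) (hrk : r ∣ q ^ k - 1) (hprim : ∀ i, 0 < i → i < k → ¬ r ∣ q ^ i - 1)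
    (ha : ¬ r ^ (a + 1) ∣ q ^ k - 1) : ¬ r ^ (a + 1) ∣ ∏ i : Fin n, (q ^ n - q ^ (i : ℕ)) := by
  classical
  have hrq : Nat.Coprime r q := by
    by_contra hnc
    have h1 : r ∣ q := by
      by_contra hnd
      exact hnc (hr.coprime_iff_not_dvd.mpr hnd)
    have h2 : r ∣ q ^ k := dvd_pow h1 hk.ne'
    have h3 : 1 ≤ q ^ k := Nat.one_le_pow _ _ (by omega)
    have h4 : r ∣ 1 := by
      have := (Nat.dvd_sub h2 hrk)
      rwa [Nat.sub_sub_self h3] at this
    exact hr.one_lt.ne' (Nat.dvd_one.mp h4)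
  have hfac : ∀ i : Fin n, q ^ n - q ^ (i : ℕ) = q ^ (i : ℕ) * (q ^ (n - i) - 1) := by
    intro i
    rw [Nat.mul_sub, mul_one, ← pow_add]
    congr 2
    omega
  let i₀ : Fin n := ⟨n - k, by omega⟩
  have hprod := Finset.mul_prod_erase (Finset.univ : Finset (Fin n))
    (fun i : Fin n => q ^ n - q ^ (i : ℕ)) (Finset.mem_univ i₀)
  rw [← hprod]
  have hrest : Nat.Coprime (r ^ (a + 1)) (∏ i ∈ Finset.univ.erase i₀, (q ^ n - q ^ (i : ℕ))) := by
    apply Nat.Coprime.pow_left
    apply Nat.Coprime.prod_right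
    intro i hi
    have hii : i ≠ i₀ := (Finset.mem_erase.mp hi).1
    rw [hfac]
    apply Nat.Coprime.mul_right (Nat.Coprime.pow_right _ hrq)
    rw [hr.coprime_iff_not_dvd]
    have hin : (i : ℕ) < n := i.2
    refine not_dvd_pow_sub_one hr hq hk hrk hprim (by omega) ?_ (by omega)
    intro he
    apply hii
    apply Fin.ext
    change (i : ℕ) = n - k
    omega
  intro hd
  have h1 : r ^ (a + 1) ∣ q ^ n - q ^ (i₀ : ℕ) := hrest.dvd_of_dvd_mul_right hd
  rw [hfac] at h1
  have h2 : n - (i₀ : ℕ) = k := by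
    change n - (n - k) = k
    omega
  rw [h2] at h1
  have h3 : Nat.Coprime (r ^ (a + 1)) (q ^ (i₀ : ℕ)) :=
    Nat.Coprime.pow _ _ hrq
  exact ha (h3.dvd_of_dvd_mul_left h1)

end numbers

variable {F : Type*} [Field F] [Fintype F] {n : ℕ}

/-- Scalars relating `x` with its conjugate are trivial in the coprime case. -/
theorem scalar_one_of_coprime {x g : GL (Fin n) F} {N : ℕ} (hxN : x ^ N = 1)
    (hN : N.Coprime (Fintype.card F - 1)) {u : Fin n → F} (hu : u ≠ 0) {c : Fˣ}
    (h : g * x * g⁻¹ = sc c * x) : c = 1 := by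
  have h1 : (g * x * g⁻¹) ^ N = 1 := by
    rw [conj_pow, hxN, mul_one, mul_inv_cancel]
  rw [h, (show Commute (sc c : GL (Fin n) F) x from sc_mul_comm c x).mul_pow, hxN, mul_one] at h1
  have h2 : sc (c ^ N) = (1 : GL (Fin n) F) := by
    have : (sc (c ^ N) : GL (Fin n) F) = (sc c) ^ N := map_pow _ _ _
    rw [this, h1]
  have h3 : ((c ^ N : Fˣ) : F) • u = u := by
    rw [← sc_mulVec (n := n), h2, one_mulVec']
  have h4 : c ^ N = 1 := eq_one_of_smul_fixed hu h3
  have h5 : orderOf c ∣ N := orderOf_dvd_of_pow_eq_one h4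
  have h6 : orderOf c ∣ Fintype.card F - 1 := by
    have := orderOf_dvd_natCard c
    rwa [Cfsg.Agent.Lib.Classical.SLBasic.card_units_eq] at this
  have h7 : orderOf c = 1 := Nat.eq_one_of_dvd_coprimes hN h5 h6
  exact orderOf_eq_one_iff.mp h7

theorem mem_G_of_coprime {x : GL (Fin n) F} {N : ℕ} (hxN : x ^ N = 1)
    (hN : N.Coprime (Fintype.card F - 1)) {G : Subgroup (PG n F)}
    (hG : ((SpecialLinearGroup.toGL : SpecialLinearGroup (Fin n) F →* GL (Fin n) F).range).map prj ≤ G) :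
    prj x ∈ G := by
  have h1 : (GeneralLinearGroup.det x) ^ N = 1 := by
    rw [← map_pow, hxN, map_one]
  have h5 : orderOf (GeneralLinearGroup.det x) ∣ N := orderOf_dvd_of_pow_eq_one h1
  have h6 : orderOf (GeneralLinearGroup.det x) ∣ Fintype.card F - 1 := by
    have := orderOf_dvd_natCard (GeneralLinearGroup.det x)
    rwa [Cfsg.Agent.Lib.Classical.SLBasic.card_units_eq] at this
  have h7 : GeneralLinearGroup.det x = 1 :=
    orderOf_eq_one_iff.mp (Nat.eq_one_of_dvd_coprimes hN h5 h6)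
  apply hG
  refine ⟨x, ?_, rfl⟩
  rw [Cfsg.Agent.Lib.Classical.SLBasic.range_toGL_eq_ker_det]
  exact h7

section rho

variable {K : Type*} [Field K] [Algebra F K] {l : ℕ}

/-- Multiplication on the first factor. -/
def mulE (c : K) : Module.End F (K × (Fin l → F)) := (LinearMap.mulLeft F c).prodMap LinearMap.id

@[simp] theorem mulE_apply (c : K) (v : K × (Fin l → F)) : mulE c v = (c * v.1, v.2) := rfl

/-- The matrix of `mulE`. -/
noncomputable def rhoM (e : (K × (Fin l → F)) ≃ₗ[F] (Fin n → F)) : K →* Matrix (Fin n) (Fin n) F where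
  toFun c := LinearMap.toMatrix' (e.toLinearMap ∘ₗ mulE c ∘ₗ e.symm.toLinearMap)
  map_one' := by
    rw [← LinearMap.toMatrix'_id]
    congr 1
    ext v
    simp
  map_mul' := by
    intro a b
    rw [← LinearMap.toMatrix'_comp]
    congr 1
    ext v
    simp [mul_assoc]

theorem rhoM_mulVec (e : (K × (Fin l → F)) ≃ₗ[F] (Fin n → F)) (c : K) (v : Fin n → F) :
    rhoM e c *ᵥ v = e (mulE c (e.symm v)) := by
  change LinearMap.toMatrix' (e.toLinearMap ∘ₗ mulE c ∘ₗ e.symm.toLinearMap) *ᵥ v = _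
  rw [LinearMap.toMatrix'_mulVec]
  rfl

/-- The representation on units. -/
noncomputable def rho (e : (K × (Fin l → F)) ≃ₗ[F] (Fin n → F)) : Kˣ →* GL (Fin n) F :=
  Units.map (rhoM e)

theorem rho_mulVec (e : (K × (Fin l → F)) ≃ₗ[F] (Fin n → F)) (c : Kˣ) (v : Fin n → F) :
    (rho e c).val *ᵥ v = e (mulE (c : K) (e.symm v)) :=
  rhoM_mulVec e c v

theorem rho_injective (e : (K × (Fin l → F)) ≃ₗ[F] (Fin n → F)) :
    Function.Injective (rho (F := F) (K := K) (l := l) e) := by
  intro a b h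
  apply Units.ext
  have h1 := congrArg (fun g : GL (Fin n) F => g.val *ᵥ (e (1, 0))) h
  simp only [rho_mulVec, LinearEquiv.symm_apply_apply, mulE_apply, mul_one] at h1
  exact congrArg Prod.fst (e.injective h1)

theorem rho_fix (e : (K × (Fin l → F)) ≃ₗ[F] (Fin n → F)) (c : Kˣ) (w : Fin l → F) :
    (rho e c).val *ᵥ (e (0, w)) = e (0, w) := by
  simp [rho_mulVec]

end rho

/-- An element of full `r`-part order in a finite field. -/
theorem exists_unit_order (K : Type*) [Field K] [Finite K] (r : ℕ) :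
    ∃ ξ : Kˣ, orderOf ξ = r ^ (Nat.card K - 1).factorization r := by
  haveI : Fintype Kˣ := Fintype.ofFinite _
  obtain ⟨ζ, hζ⟩ := IsCyclic.exists_generator (α := Kˣ)
  have hζo : orderOf ζ = Nat.card K - 1 := by
    rw [orderOf_eq_card_of_forall_mem_zpowers hζ, Nat.card_units]
  have hdiv : r ^ (Nat.card K - 1).factorization r ∣ orderOf ζ := by
    rw [hζo]; exact Nat.ordProj_dvd _ _
  exact ⟨_, orderOf_pow_orderOf_div (orderOf_pos _).ne' hdiv⟩

/-- The main case: a primitive prime divisor of `q ^ k - 1` with `n / 2 < k < n`. -/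
theorem no_cover_primitive {k l : ℕ} (hk : 2 ≤ k) (hl : 1 ≤ l) (hn : k + l = n) (h2k : n < 2 * k)
    {r : ℕ} (hr : r.Prime) (hrk : r ∣ Fintype.card F ^ k - 1)
    (hprim : ∀ i, 0 < i → i < k → ¬ r ∣ Fintype.card F ^ i - 1) {G : Subgroup (PG n F)}
    (hG : ((SpecialLinearGroup.toGL : SpecialLinearGroup (Fin n) F →* GL (Fin n) F).range).map prj ≤ G)
    {𝓐 : Finset (Subgroup G)} (h : IsNilMinCover 𝓐) : False := by
  classical
  set q := Fintype.card F with hq
  have hq2 : 2 ≤ q := Fintype.one_lt_card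
  haveI : Fact r.Prime := ⟨hr⟩
  obtain ⟨p, hchar⟩ := CharP.exists F
  have hpp : p.Prime := CharP.char_is_prime F p
  haveI : Fact p.Prime := ⟨hpp⟩
  haveI : NeZero k := ⟨by omega⟩
  -- the primes are different
  have hrF : (r : F) ≠ 0 := by
    intro h0
    have h1 : p ∣ r := (CharP.cast_eq_zero_iff F p r).mp h0
    have h2 : p = r := (Nat.prime_dvd_prime_iff_eq hpp hr).mp h1
    obtain ⟨f, -, hf⟩ := FiniteField.card F p
    have h3 : r ∣ q := by
      rw [hq, hf, ← h2]
      exact dvd_pow_self p f.pos.ne'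
    have h4 : r ∣ q ^ k := dvd_pow h3 (by omega)
    have h5 : 1 ≤ q ^ k := Nat.one_le_pow _ _ (by omega)
    have h6 : r ∣ 1 := by
      have := Nat.dvd_sub h4 hrk
      rwa [Nat.sub_sub_self h5] at this
    exact hr.one_lt.ne' (Nat.dvd_one.mp h6)
  let K := FiniteField.Extension F p k
  have hfr : Module.finrank F K = k := FiniteField.finrank_extension F p k
  have hcK : Nat.card K = q ^ k := by
    rw [FiniteField.natCard_extension, Nat.card_eq_fintype_card]
  have hfr2 : Module.finrank F (K × (Fin l → F)) = Module.finrank F (Fin n → F) := by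
    rw [Module.finrank_prod, hfr, Module.finrank_fin_fun, Module.finrank_fin_fun, hn]
  let e : (K × (Fin l → F)) ≃ₗ[F] (Fin n → F) := LinearEquiv.ofFinrankEq _ _ hfr2
  obtain ⟨ξ, hξ⟩ := exists_unit_order K r
  rw [hcK] at hξ
  set a := (q ^ k - 1).factorization r with ha
  have hqk : q ^ k - 1 ≠ 0 := by
    have : 2 ^ k ≤ q ^ k := Nat.pow_le_pow_left hq2 k
    have h4 : 2 ^ 2 ≤ 2 ^ k := Nat.pow_le_pow_right (by norm_num) hk
    omega
  have ha1 : 1 ≤ a := (hr.dvd_iff_one_le_factorization hqk).mp hrk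
  let x := rho e ξ
  have hxo : orderOf x = r ^ a := by
    rw [← hξ]
    exact orderOf_injective (rho e) (rho_injective e) ξ
  have hxN : x ^ (r ^ a) = 1 := by
    rw [← hxo, pow_orderOf_eq_one]
  let l₀ : Fin l := ⟨0, by omega⟩
  let u : Fin n → F := e (0, Pi.single l₀ 1)
  have hu : u ≠ 0 := by
    intro h0
    have h1 : ((0 : K), (Pi.single l₀ 1 : Fin l → F)) = 0 := e.map_eq_zero_iff.mp h0
    have h2 := congrFun (congrArg Prod.snd h1) l₀
    simp at h2
  have hxu : x.val *ᵥ u = u := rho_fix e ξ _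
  have hcop : (r ^ a).Coprime (q - 1) :=
    Nat.Coprime.pow_left _ ((hr.coprime_iff_not_dvd).mpr (by
      have := hprim 1 (by omega) (by omega)
      simpa using this))
  refine no_cover_of_element hG h hrF hxo ha1 hu hxu ?_ (mem_G_of_coprime hxN hcop hG) ?_
  · intro g c hc
    exact scalar_one_of_coprime hxN hcop hu hc
  · have h1 : Nat.card (PG n F) ∣ Nat.card (GL (Fin n) F) := Subgroup.card_quotient_dvd_card _
    intro hd
    have h2 := hd.trans h1
    rw [Matrix.card_GL_field] at h2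
    refine not_dvd_card_GL hr hq2 (by omega) (by omega) h2k hrk hprim ?_ h2
    intro hd2
    have := (hr.pow_dvd_iff_le_factorization hqk).mp hd2
    omega

end Cfsg.Agent.Lib.NilCover.PGLk
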