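import Mathlib
import Cfsg.Agent.Lib.NilCover.PGLk
import Cfsg.Agent.Lib.NilCover.Central

/-!
# Nilpotent minimal covers of subgroups of `PGL₃` over a field of odd order
-/

set_option autoImplicit false
set_option linter.style.haveILetI false
set_option linter.unusedSectionVars false

namespace Cfsg.Agent.Lib.NilCover.PGL3

open Matrix Subgroup Cfsg.Agent.Lib.NilCover.Basic Cfsg.Agent.Lib.NilCover.PGLBase
  Cfsg.Agent.Lib.NilCover.PGLk Cfsg.Agent.Lib.NilCover.Central

variable {F : Type*} [Field F] [Fintype F] {n : ℕ}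

theorem gl_ext {a b : GL (Fin n) F} (h : ∀ v, a.val *ᵥ v = b.val *ᵥ v) : a = b :=
  Units.ext (Matrix.ext_of_mulVec_single fun _ => h _)

section hat

variable {K : Type*} [Field K] [Algebra F K] {l : ℕ}

/-- The linear map on the model space. -/
noncomputable def ghat (e : (K × (Fin l → F)) ≃ₗ[F] (Fin n → F)) (g : GL (Fin n) F) :
    (K × (Fin l → F)) →ₗ[F] (K × (Fin l → F)) :=
  e.symm.toLinearMap ∘ₗ Matrix.toLin' g.val ∘ₗ e.toLinearMap

theorem ghat_apply (e : (K × (Fin l → F)) ≃ₗ[F] (Fin n → F)) (g : GL (Fin n) F)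
    (v : K × (Fin l → F)) : ghat e g v = e.symm (g.val *ᵥ e v) := rfl

theorem ghat_mul (e : (K × (Fin l → F)) ≃ₗ[F] (Fin n → F)) (a b : GL (Fin n) F)
    (v : K × (Fin l → F)) : ghat e (a * b) v = ghat e a (ghat e b v) := by
  simp [ghat_apply]

theorem ghat_rho (e : (K × (Fin l → F)) ≃ₗ[F] (Fin n → F)) (c : Kˣ) (v : K × (Fin l → F)) :
    ghat e (rho e c) v = mulE (c : K) v := by
  simp [ghat_apply, rho_mulVec]

theorem ghat_sc (e : (K × (Fin l → F)) ≃ₗ[F] (Fin n → F)) (c : Fˣ) (v : K × (Fin l → F)) :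
    ghat e (sc c) v = (c : F) • v := by
  simp [ghat_apply]

theorem ghat_injective (e : (K × (Fin l → F)) ≃ₗ[F] (Fin n → F)) (g : GL (Fin n) F) :
    Function.Injective (ghat e g) := by
  intro a b h
  rw [ghat_apply, ghat_apply] at h
  exact e.injective (mulVec_injective g (e.symm.injective h))

/-- Equality of group elements can be checked on the model. -/
theorem eq_of_ghat (e : (K × (Fin l → F)) ≃ₗ[F] (Fin n → F)) {a b : GL (Fin n) F}
    (h : ∀ v, ghat e a v = ghat e b v) : a = b := by
  apply gl_ext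
  intro v
  have := h (e.symm v)
  rw [ghat_apply, ghat_apply, LinearEquiv.apply_symm_apply] at this
  exact e.symm.injective this

end hat

section structure_two

variable {K : Type*} [Field K] [Algebra F K]

theorem exists_pair (hK : Module.finrank F K = 2) [Module.Finite F K] {ξ : K}
    (hξ : ∀ α : F, ξ ≠ algebraMap F K α) (c : K) :
    ∃ α β : F, c = α • (1 : K) + β • ξ := by
  have hli : LinearIndependent F ![(1 : K), ξ] := by
    rw [LinearIndependent.pair_iff]
    intro s t hst
    have ht : t = 0 := by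
      by_contra ht
      apply hξ (-(t⁻¹ * s))
      have h1 : t • ξ = -(s • (1 : K)) := eq_neg_of_add_eq_zero_right hst
      have h2 : ξ = t⁻¹ • (t • ξ) := by rw [smul_smul, inv_mul_cancel₀ ht, one_smul]
      rw [h2, h1, Algebra.algebraMap_eq_smul_one, smul_neg, smul_smul, neg_smul]
    subst ht
    simp only [zero_smul, add_zero] at hst
    refine ⟨?_, rfl⟩
    by_contra hs
    exact one_ne_zero ((smul_eq_zero.mp hst).resolve_left hs)
  have hspan : Submodule.span F (Set.range ![(1 : K), ξ]) = ⊤ :=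
    hli.span_eq_top_of_card_eq_finrank (by simp [hK])
  have hc : c ∈ Submodule.span F (Set.range ![(1 : K), ξ]) := by
    rw [hspan]; trivial
  simp only [Matrix.range_cons, Matrix.range_empty, Set.union_empty, Set.singleton_union] at hc
  obtain ⟨a, b, hab⟩ := Submodule.mem_span_pair.mp hc
  exact ⟨a, b, hab.symm⟩

/-- A linear map commuting with `mulE ξ` has diagonal form. -/
theorem structure_of_comm (hK : Module.finrank F K = 2) [Module.Finite F K] {ξ : K}
    (hξ : ∀ α : F, ξ ≠ algebraMap F K α)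
    (T : (K × (Fin 1 → F)) →ₗ[F] (K × (Fin 1 → F)))
    (hT : ∀ v, T (mulE ξ v) = mulE ξ (T v)) :
    ∃ (c₀ : K) (d : F), ∀ (c : K) (w : Fin 1 → F), T (c, w) = (c * c₀, d • w) := by
  have hξ1 : ξ - 1 ≠ 0 := by
    intro h
    apply hξ 1
    rw [map_one]
    exact sub_eq_zero.mp h
  -- the fixed space is preserved
  have h1 : ∀ w : Fin 1 → F, (T (0, w)).1 = 0 := by
    intro w
    have h2 := hT (0, w)
    have h3 : mulE ξ ((0 : K), w) = (0, w) := by simp
    rw [h3] at h2
    have h4 := congrArg Prod.fst h2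
    rw [mulE_apply] at h4
    simp only at h4
    have h5 : (ξ - 1) * (T (0, w)).1 = 0 := by
      rw [sub_mul, one_mul, ← h4, sub_self]
    exact (mul_eq_zero.mp h5).resolve_left hξ1
  -- the image is preserved
  have h2 : ∀ c : K, (T (c, 0)).2 = 0 := by
    intro c
    set y := c / (ξ - 1) with hy
    have h3 : ((c : K), (0 : Fin 1 → F)) = mulE ξ (y, 0) - (y, 0) := by
      rw [mulE_apply]
      ext
      · simp only [Prod.fst_sub]
        rw [← sub_one_mul, hy]
        field_simp
      · simp
    rw [h3, map_sub, hT]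
    simp [mulE_apply]
  let κ : K → K := fun c => (T (c, 0)).1
  have hκadd : ∀ a b, κ (a + b) = κ a + κ b := by
    intro a b
    have : ((a + b, 0) : K × (Fin 1 → F)) = (a, 0) + (b, 0) := by simp
    simp only [κ]
    rw [this, map_add]
    rfl
  have hκsmul : ∀ (s : F) a, κ (s • a) = s • κ a := by
    intro s a
    have : ((s • a, 0) : K × (Fin 1 → F)) = s • (a, 0) := by simp
    simp only [κ]
    rw [this, map_smul]
    rfl
  have hκξ : ∀ a, κ (ξ * a) = ξ * κ a := by
    intro a
    have h3 := hT (a, 0)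
    have h4 := congrArg Prod.fst h3
    rw [mulE_apply, mulE_apply] at h4
    exact h4
  have hκ : ∀ c, κ c = c * κ 1 := by
    intro c
    obtain ⟨α, β, rfl⟩ := exists_pair hK hξ c
    rw [hκadd, hκsmul, hκsmul]
    have : κ ξ = ξ * κ 1 := by
      have := hκξ 1
      rwa [mul_one] at this
    rw [this]
    simp only [add_mul, smul_mul_assoc, one_mul]
  let w₀ : Fin 1 → F := Pi.single 0 1
  refine ⟨κ 1, (T (0, w₀)).2 0, ?_⟩
  intro c w
  have hw : w = (w 0) • w₀ := by
    ext i
    have : i = 0 := Subsingleton.elim _ _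
    subst this
    simp [w₀]
  have h3 : T (0, w₀) = (0, ((T (0, w₀)).2 0) • w₀) := by
    ext
    · exact h1 w₀
    · rename_i i
      have : i = 0 := Subsingleton.elim _ _
      subst this
      simp [w₀]
  have h4 : (c, w) = (c, (0 : Fin 1 → F)) + (w 0) • ((0 : K), w₀) := by
    ext
    · simp
    · rename_i i
      have : i = 0 := Subsingleton.elim _ _
      subst this
      simp [w₀]
  rw [h4, map_add, map_smul, h3]
  have h5 : T (c, 0) = (κ c, 0) := by
    ext
    · rfl
    · rw [h2 c]
  rw [h5, hκ]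
  ext
  · simp
  · rename_i i
    have : i = 0 := Subsingleton.elim _ _
    subst this
    simp [w₀, mul_comm]

end structure_two

/-- A `2`-element of `GL₃` lies in the image of `SL₃` modulo scalars. -/
theorem mem_G_of_two_power {G : Subgroup (PG 3 F)}
    (hG : ((SpecialLinearGroup.toGL : SpecialLinearGroup (Fin 3) F →* GL (Fin 3) F).range).map prj ≤ G)
    {x : GL (Fin 3) F} {a : ℕ} (hxa : x ^ 2 ^ (a + 1) = 1) : prj x ∈ G := by
  set δ := GeneralLinearGroup.det x with hδ
  have hδa : δ ^ 2 ^ (a + 1) = 1 := by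
    rw [hδ, ← map_pow, hxa, map_one]
  have hcop : Nat.Coprime 3 (2 ^ (a + 1)) := Nat.Coprime.pow_right _ (by norm_num)
  have h1lt : 1 < 2 ^ (a + 1) := Nat.one_lt_pow (by omega) (by norm_num)
  obtain ⟨t, -, ht⟩ := Nat.exists_mul_mod_eq_one_of_coprime hcop h1lt
  let c : Fˣ := (δ⁻¹) ^ t
  have hc3 : c ^ 3 * δ = 1 := by
    have h3t : 3 * t = 2 ^ (a + 1) * (3 * t / 2 ^ (a + 1)) + 1 := by
      conv_lhs => rw [← Nat.div_add_mod (3 * t) (2 ^ (a + 1)), ht]
    have : c ^ 3 = δ⁻¹ := by
      simp only [c]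
      rw [← pow_mul, mul_comm t 3, h3t, pow_succ, pow_mul, inv_pow, hδa, inv_one, one_pow, one_mul]
    rw [this, inv_mul_cancel]
  have hdet : GeneralLinearGroup.det (sc c * x) = 1 := by
    rw [map_mul, GeneralLinearGroup.det_scalar, Fintype.card_fin, hc3]
  have hmem : sc c * x ∈ (SpecialLinearGroup.toGL : SpecialLinearGroup (Fin 3) F →* GL (Fin 3) F).range := by
    rw [Cfsg.Agent.Lib.Classical.SLBasic.range_toGL_eq_ker_det]
    exact hdet
  have h2 : prj (sc c * x) ∈ G := hG ⟨_, hmem, rfl⟩
  rwa [map_mul, prj_sc, one_mul] at h2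

theorem no_cover_three (h2F : (2 : F) ≠ 0) {G : Subgroup (PG 3 F)}
    (hG : ((SpecialLinearGroup.toGL : SpecialLinearGroup (Fin 3) F →* GL (Fin 3) F).range).map prj ≤ G)
    {𝓐 : Finset (Subgroup G)} (h : IsNilMinCover 𝓐) : False := by
  classical
  set q := Fintype.card F with hq
  have hq2 : 2 ≤ q := Fintype.one_lt_card
  haveI : Fact (Nat.Prime 2) := ⟨Nat.prime_two⟩
  obtain ⟨p, hchar⟩ := CharP.exists F
  have hpp : p.Prime := CharP.char_is_prime F p
  haveI : Fact p.Prime := ⟨hpp⟩
  have hqodd : ¬ 2 ∣ q := by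
    intro hd
    obtain ⟨f, -, hf⟩ := FiniteField.card F p
    rw [hq, hf] at hd
    have h1 : 2 ∣ p := Nat.prime_two.dvd_of_dvd_pow hd
    have h2 : 2 = p := (Nat.prime_dvd_prime_iff_eq Nat.prime_two hpp).mp h1
    apply h2F
    have := CharP.cast_eq_zero F p
    rw [← h2] at this
    exact_mod_cast this
  let K := FiniteField.Extension F p 2
  have hfr : Module.finrank F K = 2 := FiniteField.finrank_extension F p 2
  have hcK : Nat.card K = q ^ 2 := by
    rw [FiniteField.natCard_extension, Nat.card_eq_fintype_card]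
  have hfr2 : Module.finrank F (K × (Fin 1 → F)) = Module.finrank F (Fin 3 → F) := by
    rw [Module.finrank_prod, hfr, Module.finrank_fin_fun, Module.finrank_fin_fun]
  let e : (K × (Fin 1 → F)) ≃ₗ[F] (Fin 3 → F) := LinearEquiv.ofFinrankEq _ _ hfr2
  obtain ⟨ξ, hξ⟩ := exists_unit_order K 2
  rw [hcK] at hξ
  set a := (q ^ 2 - 1).factorization 2 with ha
  have hq3 : 3 ≤ q := by
    by_contra hlt
    have : q = 2 := by omega
    exact hqodd (by rw [this])
  have hfacq : q ^ 2 - 1 = (q - 1) * (q + 1) := by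
    obtain ⟨d, hd⟩ : ∃ d, q = d + 1 := ⟨q - 1, by omega⟩
    rw [hd]
    simp only [Nat.add_sub_cancel]
    have : (d + 1) ^ 2 = d * (d + 1 + 1) + 1 := by ring
    rw [this, Nat.add_sub_cancel]
  have hq1 : 2 ∣ q - 1 := by omega
  have hq1' : 2 ∣ q + 1 := by omega
  have hpos1 : q - 1 ≠ 0 := by omega
  have hpos2 : q + 1 ≠ 0 := by omega
  have hafac : a = (q - 1).factorization 2 + (q + 1).factorization 2 := by
    rw [ha, hfacq, Nat.factorization_mul hpos1 hpos2]
    rfl
  have hb1 : 1 ≤ (q + 1).factorization 2 :=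
    (Nat.prime_two.dvd_iff_one_le_factorization hpos2).mp hq1'
  have hb2 : 1 ≤ (q - 1).factorization 2 :=
    (Nat.prime_two.dvd_iff_one_le_factorization hpos1).mp hq1
  obtain ⟨a', ha'⟩ : ∃ a', a = a' + 1 := ⟨a - 1, by omega⟩
  have hξnot : ∀ α : F, (ξ : K) ≠ algebraMap F K α := by
    intro α hα
    have hα0 : α ≠ 0 := by
      rintro rfl
      rw [map_zero] at hα
      exact ξ.ne_zero hα
    have h1 : (ξ : K) ^ (q - 1) = 1 := by
      rw [hα, ← map_pow, FiniteField.pow_card_sub_one_eq_one α hα0, map_one]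
    have h2 : ξ ^ (q - 1) = 1 := Units.ext (by simpa using h1)
    have h3 : 2 ^ a ∣ q - 1 := by
      rw [← hξ]
      exact orderOf_dvd_of_pow_eq_one h2
    have h4 := (Nat.prime_two.pow_dvd_iff_le_factorization hpos1).mp h3
    omega
  let x := rho e ξ
  have hxa : x ^ 2 ^ (a' + 1) = 1 := by
    rw [← ha', ← map_pow, ← hξ, pow_orderOf_eq_one, map_one]
  let w₀ : Fin 1 → F := Pi.single 0 1
  let u : Fin 3 → F := e (0, w₀)
  have hu : u ≠ 0 := by
    intro h0
    have h1 : ((0 : K), w₀) = 0 := e.map_eq_zero_iff.mp h0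
    have h2 := congrFun (congrArg Prod.snd h1) 0
    simp [w₀] at h2
  have hxu : x.val *ᵥ u = u := rho_fix e ξ _
  let z := rho e (-1 : Kˣ)
  have hzu : z.val *ᵥ u = u := rho_fix e _ _
  have h2K : (2 : K) ≠ 0 := by
    intro h0
    apply h2F
    have : algebraMap F K 2 = 0 := by rw [map_ofNat]; exact h0
    exact (map_eq_zero _).mp this
  have hneg : (-1 : Kˣ) ≠ 1 := by
    intro h0
    have h1 : (-1 : K) = 1 := by simpa using congrArg Units.val h0
    apply h2K
    have : (2 : K) = 1 - (-1) := by ring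
    rw [this, h1, sub_self]
  have hz1 : z ≠ 1 := by
    intro h0
    exact hneg (rho_injective e (h0.trans (map_one _).symm))
  have hz2 : z ^ 2 = 1 := by
    rw [← map_pow]
    simp
  have hzG : prj z ∈ G := mem_G_of_two_power (a := 0) hG (by simpa using hz2)
  have hxG : prj x ∈ G := mem_G_of_two_power hG hxa
  let sx : G := ⟨prj x, hxG⟩
  let sz : G := ⟨prj z, hzG⟩
  obtain ⟨τ, hτ1, hτ2⟩ := exists_tau (N := 2) (x := z) (by exact_mod_cast h2F) hz2 hz1 hu hzu
  have hτm : prj (SpecialLinearGroup.toGL τ) ∈ G := hG ⟨_, ⟨τ, rfl⟩, rfl⟩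
  refine central_contra (p := 2) (k := a' + 1) h (x := sx) (z := sz) ?_ ?_ ?_ (H := Hsub G z)
    (Hsub_ne_top hG hz1 hu hzu) ?_ (τ := ⟨_, hτm⟩) ((mem_Hsub_prj hτm).mpr (mem_Stab_of_fix hτ1)) ?_
  · apply Subtype.ext
    simp only [Subgroup.coe_pow, sx, Subgroup.coe_one]
    rw [← map_pow, hxa, map_one]
  · intro h0
    have h1 : prj x = 1 := congrArg Subtype.val h0
    have h2 := pow_eq_one_of_prj (k := 1) hu hxu (by rw [pow_one, h1])
    rw [pow_one] at h2
    have h3 : ξ = 1 := rho_injective e (h2.trans (map_one _).symm)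
    exact hξnot 1 (by rw [h3]; simp)
  · -- uniqueness of the involution
    intro y hyo hyx
    obtain ⟨g, hg⟩ := QuotientGroup.mk'_surjective _ (y : PG 3 F)
    have hgy : prj g = (y : PG 3 F) := hg
    have hy2 : (prj g) ^ 2 = 1 := by
      rw [hgy, ← Subgroup.coe_pow, ← hyo, pow_orderOf_eq_one, Subgroup.coe_one]
    have hy1 : prj g ≠ 1 := by
      intro h0
      rw [hgy] at h0
      have : y = 1 := Subtype.ext h0
      rw [this, orderOf_one] at hyo
      omega
    have hcomm : prj g * prj x = prj x * prj g := by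
      have := congrArg Subtype.val hyx
      simpa only [Subgroup.coe_mul, hgy] using this
    obtain ⟨c, hc⟩ := prj_comm_iff.mp hcomm
    -- the scalar is trivial
    have hgx : g * x = sc c * x * g := by
      rw [← hc]; group
    have hinj := ghat_injective e g
    let v₀ : K × (Fin 1 → F) := (0, w₀)
    have hv₀ : v₀ ≠ 0 := by
      intro h0
      have h2 := congrFun (congrArg Prod.snd h0) 0
      simp [v₀, w₀] at h2
    have hc1 : c = 1 := by
      have h1 := congrArg (fun t => ghat e t v₀) hgx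
      simp only [ghat_mul, ghat_rho, ghat_sc, x] at h1
      have h2 : mulE (ξ : K) v₀ = v₀ := by simp [v₀]
      rw [h2] at h1
      set w := ghat e g v₀ with hw
      have hw0 : w ≠ 0 := by
        intro h0
        apply hv₀
        apply hinj
        rw [map_zero]
        exact h0
      have h3 := congrArg Prod.fst h1
      have h4 := congrArg Prod.snd h1
      simp only [Prod.smul_fst, Prod.smul_snd, mulE_apply] at h3 h4
      by_cases hw1 : w.1 = 0
      · have hw2 : w.2 ≠ 0 := by
          intro h0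
          exact hw0 (Prod.ext hw1 h0)
        exact eq_one_of_smul_fixed hw2 h4.symm
      · exfalso
        apply hξnot ((c : F)⁻¹)
        have h5 : (c : F) • (ξ : K) = 1 := by
          have h6 : ((c : F) • (ξ : K)) * w.1 = 1 * w.1 := by
            rw [one_mul, smul_mul_assoc]
            exact h3.symm
          exact mul_right_cancel₀ hw1 h6
        have hc0 : (c : F) ≠ 0 := c.ne_zero
        calc (ξ : K) = (c : F)⁻¹ • ((c : F) • (ξ : K)) := by
              rw [smul_smul, inv_mul_cancel₀ hc0, one_smul]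
          _ = algebraMap F K ((c : F)⁻¹) := by
              rw [h5, Algebra.algebraMap_eq_smul_one]
    subst hc1
    have hsc1 : (sc 1 : GL (Fin 3) F) = 1 := map_one _
    rw [hsc1, one_mul] at hc hgx
    have hT : ∀ v, ghat e g (mulE (ξ : K) v) = mulE (ξ : K) (ghat e g v) := by
      intro v
      have h1 := congrArg (fun t => ghat e t v) hgx
      simpa only [ghat_mul, ghat_rho, x, hc] using h1
    obtain ⟨c₀, d, hstr⟩ := structure_of_comm hfr hξnot (ghat e g) hT
    -- the square is a scalar
    have h1g : prj (1 : GL (Fin 3) F) = prj (g ^ 2) := by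
      rw [map_one, map_pow, hy2]
    obtain ⟨s, hs⟩ := prj_eq_iff.mp h1g
    rw [mul_one] at hs
    have hg2 : ∀ v, ghat e g (ghat e g v) = (s : F) • v := by
      intro v
      rw [← ghat_mul, ← pow_two, hs, ghat_sc]
    have hd0 : d ≠ 0 := by
      rintro rfl
      apply hv₀
      apply hinj
      rw [map_zero, hstr]
      simp
    have hs1 := hg2 (1, 0)
    rw [hstr, hstr] at hs1
    have hs2 := congrArg Prod.fst hs1
    simp only [Prod.smul_fst, one_mul] at hs2
    have hs3 := hg2 (0, w₀)
    rw [hstr, hstr] at hs3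
    have hs4 := congrFun (congrArg Prod.snd hs3) 0
    simp [w₀] at hs4
    have hsq : c₀ ^ 2 = (algebraMap F K d) ^ 2 := by
      rw [← map_pow, pow_two d, hs4, Algebra.algebraMap_eq_smul_one, pow_two, hs2]
    let dU : Fˣ := Units.mk0 d hd0
    rcases sq_eq_sq_iff_eq_or_eq_neg.mp hsq with h5 | h5
    · exfalso
      apply hy1
      have : g = sc dU := by
        apply eq_of_ghat e
        rintro ⟨c, w⟩
        rw [hstr, ghat_sc, h5]
        ext
        · simp [dU, Algebra.smul_def, mul_comm]
        · rename_i i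
          simp [dU]
      rw [this, prj_sc]
    · apply Subtype.ext
      change (y : PG 3 F) = prj z
      rw [← hgy]
      have : g = sc dU * z := by
        apply eq_of_ghat e
        rintro ⟨c, w⟩
        rw [hstr, ghat_mul, ghat_sc, ghat_rho, h5]
        ext
        · simp [dU, Algebra.smul_def, mul_comm]
          ring
        · rename_i i
          simp [dU]
      rw [this, map_mul, prj_sc, one_mul]
  · -- the centralizer of the involution is in the stabilizer
    intro c hc
    obtain ⟨g, hg⟩ := QuotientGroup.mk'_surjective _ (c : PG 3 F)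
    have hgc : prj g = (c : PG 3 F) := hg
    have hgG : prj g ∈ G := by
      rw [hgc]
      exact c.2
    have h1 : c * sz = sz * c := mem_centralizer_singleton_iff.mp hc
    have h2 : prj g * prj z = prj z * prj g := by
      have := congrArg Subtype.val h1
      simpa only [Subgroup.coe_mul, hgc] using this
    obtain ⟨c', hc'⟩ := prj_comm_iff.mp h2
    have hc1 : c' = 1 := by
      -- `c' ^ 2 = 1` and `c' ^ 3 = 1`
      have h3 : (g * z * g⁻¹) ^ 2 = 1 := by
        rw [conj_pow, hz2, mul_one, mul_inv_cancel]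
      rw [hc', (show Commute (sc c' : GL (Fin 3) F) z from sc_mul_comm c' z).mul_pow, hz2, mul_one]
        at h3
      have h4 : (sc (c' ^ 2) : GL (Fin 3) F) = 1 := by
        have : (sc (c' ^ 2) : GL (Fin 3) F) = (sc c') ^ 2 := map_pow _ _ _
        rw [this, h3]
      have h5 : ((c' ^ 2 : Fˣ) : F) • u = u := by
        rw [← sc_mulVec (n := 3), h4, one_mulVec']
      have h6 : c' ^ 2 = 1 := eq_one_of_smul_fixed hu h5
      have h7 : GeneralLinearGroup.det (g * z * g⁻¹) = GeneralLinearGroup.det z := by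
        rw [map_mul, map_mul, map_inv, mul_comm (GeneralLinearGroup.det g), mul_inv_cancel_right]
      rw [hc', map_mul, GeneralLinearGroup.det_scalar, Fintype.card_fin] at h7
      have h8 : c' ^ 3 = 1 := mul_eq_right.mp h7
      have : c' = c' ^ 3 * (c' ^ 2)⁻¹ := by group
      rw [this, h6, h8]
      simp
    subst hc1
    have hsc1 : (sc 1 : GL (Fin 3) F) = 1 := map_one _
    rw [hsc1, one_mul] at hc'
    have h4 : g * z = z * g := by
      have : g * z = (g * z * g⁻¹) * g := by group
      rw [this, hc']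
    have h5' : (⟨prj g, hgG⟩ : G) ∈ Hsub G z := (mem_Hsub_prj hgG).mpr (mem_Stab_of_comm h4)
    have : c = ⟨prj g, hgG⟩ := Subtype.ext hgc.symm
    rwa [this]
  · intro hcomm
    have h2 : prj (SpecialLinearGroup.toGL τ) * prj z = prj z * prj (SpecialLinearGroup.toGL τ) := by
      have := congrArg Subtype.val hcomm
      simpa only [Subgroup.coe_mul] using this
    obtain ⟨c, hc⟩ := prj_comm_iff.mp h2
    exact hτ2 1 c (by rw [pow_one]; exact hc)

end Cfsg.Agent.Lib.NilCover.PGL3
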