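import Mathlib
import Cfsg.Agent.Lib.NilCover.PGL3

/-!
# Nilpotent minimal covers of subgroups of `PGL₂`: explicit matrices and the split torus
-/

set_option autoImplicit false
set_option linter.style.haveILetI false
set_option linter.unusedSectionVars false

namespace Cfsg.Agent.Lib.NilCover.PGL2A

open Matrix Subgroup Cfsg.Agent.Lib.NilCover.Basic Cfsg.Agent.Lib.NilCover.PGLBase
  Cfsg.Agent.Lib.NilCover.PGLk Cfsg.Agent.Lib.NilCover.Central Cfsg.Agent.Lib.NilCover.PGL3

variable {F : Type*} [Field F] [Fintype F]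

/-- Elements of `GL₂` by entries. -/
noncomputable def mk2 (a b c d : F) (h : a * d - b * c ≠ 0) : GL (Fin 2) F :=
  GeneralLinearGroup.mkOfDetNeZero !![a, b; c, d] (by rwa [Matrix.det_fin_two_of])

theorem mk2_val (a b c d : F) (h : a * d - b * c ≠ 0) :
    (mk2 a b c d h).val = !![a, b; c, d] := rfl

theorem dg_aux (c : Fˣ) : (c : F) * 1 - 0 * 0 ≠ 0 := by
  simp

/-- Diagonal elements `diag(c, 1)`. -/
noncomputable def dg : Fˣ →* GL (Fin 2) F where
  toFun c := mk2 (c : F) 0 0 1 (dg_aux c)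
  map_one' := by
    apply Units.ext
    change !![((1 : Fˣ) : F), 0; 0, 1] = 1
    rw [Units.val_one, Matrix.one_fin_two]
  map_mul' := by
    intro a b
    apply Units.ext
    change !![((a * b : Fˣ) : F), 0; 0, 1] = !![(a : F), 0; 0, 1] * !![(b : F), 0; 0, 1]
    rw [Matrix.mul_fin_two]
    simp

theorem dg_val (c : Fˣ) : (dg c).val = !![(c : F), 0; 0, 1] := rfl

theorem dg_injective : Function.Injective (dg : Fˣ → GL (Fin 2) F) := by
  intro a b h
  have h1 : (dg a).val = (dg b).val := congrArg Units.val h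
  rw [dg_val, dg_val] at h1
  have h2 := congrFun (congrFun h1 0) 0
  exact Units.ext (by simpa using h2)

theorem dg_fix (c : Fˣ) : (dg c).val *ᵥ ![0, 1] = ![0, 1] := by
  rw [dg_val]
  ext i
  fin_cases i <;> simp [Matrix.mulVec, dotProduct, Fin.sum_univ_two]

theorem e2_ne : (![0, 1] : Fin 2 → F) ≠ 0 := by
  intro h
  have := congrFun h 1
  simp at this

theorem sc_mul_val (c : Fˣ) (a : GL (Fin 2) F) : (sc c * a).val = (c : F) • a.val := by
  rw [Units.val_mul, sc_val, Matrix.smul_mul, one_mul]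

/-- Matrix equation of a conjugation relation. -/
theorem conj_matrix {g x : GL (Fin 2) F} {c : Fˣ} (h : g * x * g⁻¹ = sc c * x) :
    g.val * x.val = (c : F) • (x.val * g.val) := by
  have h1 : g * x = sc c * x * g := by
    rw [← h]; group
  have h2 := congrArg Units.val h1
  rw [Units.val_mul, Units.val_mul, sc_mul_val, Matrix.smul_mul] at h2
  exact h2

theorem det_ne (g : GL (Fin 2) F) : g.val 0 0 * g.val 1 1 - g.val 0 1 * g.val 1 0 ≠ 0 := by
  have h := g.isUnit
  have h2 : g.val.det ≠ 0 := by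
    have := (Matrix.isUnit_iff_isUnit_det _).mp h
    exact this.ne_zero
  rwa [Matrix.det_fin_two] at h2

/-- Conjugation relations with a diagonal element whose square is not one. -/
theorem entries_diag {a b c d e k : F}
    (h : !![a, b; c, d] * !![e, 0; 0, 1] = k • (!![e, 0; 0, 1] * !![a, b; c, d])) :
    a * e = k * (e * a) ∧ b = k * (e * b) ∧ c * e = k * c ∧ d = k * d := by
  rw [Matrix.mul_fin_two, Matrix.mul_fin_two] at h
  have e00 := congrFun (congrFun h 0) 0
  have e01 := congrFun (congrFun h 0) 1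
  have e10 := congrFun (congrFun h 1) 0
  have e11 := congrFun (congrFun h 1) 1
  simp at e00 e01 e10 e11
  exact ⟨e00, e01, e10, e11⟩

/-- Conjugation relations with a diagonal element whose square is not one. -/
theorem diag_conj {g : GL (Fin 2) F} {ε c : Fˣ} (hε : ε ^ 2 ≠ 1) (h : g * dg ε * g⁻¹ = sc c * dg ε) :
    c = 1 ∧ g.val 0 1 = 0 ∧ g.val 1 0 = 0 := by
  have hm := conj_matrix h
  rw [dg_val, Matrix.eta_fin_two g.val] at hm
  obtain ⟨e00, e01, e10, e11⟩ := entries_diag hm
  have hε0 : (ε : F) ≠ 0 := ε.ne_zero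
  have hε1 : (ε : F) ≠ 1 := by
    intro h1
    apply hε
    have : ε = 1 := Units.ext h1
    rw [this, one_pow]
  have hd := det_ne g
  have hc : c = 1 := by
    by_contra hc
    have hc' : (c : F) ≠ 1 := fun h1 => hc (Units.ext h1)
    have h11 : g.val 1 1 = 0 := by
      have : g.val 1 1 * (1 - c) = 0 := by linear_combination e11
      exact (mul_eq_zero.mp this).resolve_right (sub_ne_zero.mpr hc'.symm)
    have h00 : g.val 0 0 = 0 := by
      have : g.val 0 0 * ((ε : F) * (1 - c)) = 0 := by linear_combination e00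
      have h2 : (ε : F) * (1 - c) ≠ 0 := mul_ne_zero hε0 (sub_ne_zero.mpr hc'.symm)
      exact (mul_eq_zero.mp this).resolve_right h2
    rw [h00, h11] at hd
    simp only [mul_zero, zero_sub, neg_ne_zero] at hd
    have h01 : g.val 0 1 ≠ 0 := left_ne_zero_of_mul hd
    have h10 : g.val 1 0 ≠ 0 := right_ne_zero_of_mul hd
    have h3 : (c : F) * ε = 1 := by
      have : g.val 0 1 * ((c : F) * ε) = g.val 0 1 * 1 := by linear_combination -e01
      exact mul_left_cancel₀ h01 this
    have h4 : (ε : F) = c := by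
      have : g.val 1 0 * ε = g.val 1 0 * c := by linear_combination e10
      exact mul_left_cancel₀ h10 this
    apply hε
    apply Units.ext
    rw [Units.val_pow_eq_pow_val, Units.val_one, pow_two]
    nth_rw 1 [h4]
    exact h3
  subst hc
  simp only [Units.val_one, one_mul] at e01 e10
  refine ⟨rfl, ?_, ?_⟩
  · have : g.val 0 1 * (1 - ε) = 0 := by linear_combination e01
    exact (mul_eq_zero.mp this).resolve_right (sub_ne_zero.mpr hε1.symm)
  · have : g.val 1 0 * (ε - 1) = 0 := by linear_combination e10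
    exact (mul_eq_zero.mp this).resolve_right (sub_ne_zero.mpr hε1)

/-- The order of `PGL₂`. -/
theorem card_PG2 : Nat.card (PG 2 F) * (Fintype.card F - 1) =
    (Fintype.card F ^ 2 - 1) * (Fintype.card F ^ 2 - Fintype.card F) := by
  have h1 := Subgroup.card_eq_card_quotient_mul_card_subgroup (Subgroup.center (GL (Fin 2) F))
  rw [Cfsg.Agent.Lib.Classical.SLBasic.card_center_gl] at h1
  rw [← h1, Matrix.card_GL_field]
  simp [Fin.prod_univ_two]

/-- Case of an odd prime divisor of `q - 1`. -/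
theorem no_cover_split {r : ℕ} (hr : r.Prime) (hr2 : r ≠ 2) (hrd : r ∣ Fintype.card F - 1)
    {G : Subgroup (PG 2 F)}
    (hG : ((SpecialLinearGroup.toGL : SpecialLinearGroup (Fin 2) F →* GL (Fin 2) F).range).map prj ≤ G)
    {𝓐 : Finset (Subgroup G)} (h : IsNilMinCover 𝓐) : False := by
  classical
  set q := Fintype.card F with hq
  have hq2 : 2 ≤ q := Fintype.one_lt_card
  haveI : Fact r.Prime := ⟨hr⟩
  obtain ⟨p, hchar⟩ := CharP.exists F
  have hpp : p.Prime := CharP.char_is_prime F p
  haveI : Fact p.Prime := ⟨hpp⟩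
  have hq1 : q - 1 ≠ 0 := by
    intro h0
    rw [h0] at hrd
    have : q = 1 := by
      by_contra hne
      omega
    omega
  have hrq : Nat.Coprime r q := by
    rw [hr.coprime_iff_not_dvd]
    intro hd
    have h1 : r ∣ q - (q - 1) := Nat.dvd_sub hd hrd
    have h2 : q - (q - 1) = 1 := by omega
    rw [h2] at h1
    exact hr.one_lt.ne' (Nat.dvd_one.mp h1)
  have hrF : (r : F) ≠ 0 := by
    intro h0
    have h1 : p ∣ r := (CharP.cast_eq_zero_iff F p r).mp h0
    have h2 : p = r := (Nat.prime_dvd_prime_iff_eq hpp hr).mp h1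
    obtain ⟨f, -, hf⟩ := FiniteField.card F p
    have h3 : r ∣ q := by
      rw [hq, hf, ← h2]
      exact dvd_pow_self p f.pos.ne'
    have := Nat.Coprime.eq_one_of_dvd hrq h3
    exact hr.one_lt.ne' this
  have hcF : Nat.card F = q := Nat.card_eq_fintype_card
  obtain ⟨ζ, hζ⟩ := exists_unit_order F r
  rw [hcF] at hζ
  set a := (q - 1).factorization r with ha
  have ha1 : 1 ≤ a := (hr.dvd_iff_one_le_factorization hq1).mp hrd
  have hodd : Odd (r ^ a) := (hr.odd_of_ne_two hr2).pow
  have hζ2 : ζ ^ 2 ≠ 1 := by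
    intro h1
    have h2 : orderOf ζ ∣ 2 := orderOf_dvd_of_pow_eq_one h1
    rw [hζ] at h2
    have h3 : r ∣ 2 := (dvd_pow_self r (by omega)).trans h2
    exact hr2 ((Nat.prime_dvd_prime_iff_eq hr Nat.prime_two).mp h3)
  let x := dg ζ
  have hxo : orderOf x = r ^ a := by
    rw [← hζ]
    exact orderOf_injective dg dg_injective ζ
  refine no_cover_of_element hG h hrF hxo ha1 e2_ne (dg_fix ζ) ?_ ?_ ?_
  · intro g c hc
    exact (diag_conj hζ2 hc).1
  · obtain ⟨N, hN⟩ := hodd
    let η : Fˣ := ζ ^ (N + 1)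
    have hη : η * η = ζ := by
      have : ζ ^ (r ^ a) = 1 := by rw [← hζ, pow_orderOf_eq_one]
      simp only [η]
      rw [← pow_add]
      have e : N + 1 + (N + 1) = r ^ a + 1 := by omega
      rw [e, pow_succ, this, one_mul]
    let s : SpecialLinearGroup (Fin 2) F :=
      ⟨!![(η : F), 0; 0, ((η⁻¹ : Fˣ) : F)], by
        rw [Matrix.det_fin_two_of]
        simp⟩
    have hs : dg ζ = sc η * SpecialLinearGroup.toGL s := by
      apply Units.ext
      rw [sc_mul_val, dg_val]
      have : (SpecialLinearGroup.toGL s).val = !![(η : F), 0; 0, ((η⁻¹ : Fˣ) : F)] := rfl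
      rw [this]
      ext i j
      fin_cases i <;> fin_cases j <;> simp [← hη]
    have : prj (dg ζ) = prj (SpecialLinearGroup.toGL s) := by
      rw [hs, map_mul, prj_sc, one_mul]
    change prj (dg ζ) ∈ G
    rw [this]
    exact hG ⟨_, ⟨s, rfl⟩, rfl⟩
  · intro hd
    have hc := card_PG2 (F := F)
    rw [← hq] at hc
    have hfac : (q ^ 2 - 1) * (q ^ 2 - q) = ((q - 1) * (q + 1)) * (q * (q - 1)) := by
      obtain ⟨d, hd⟩ : ∃ d, q = d + 1 := ⟨q - 1, by omega⟩
      rw [hd]
      simp only [Nat.add_sub_cancel]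
      have e1 : (d + 1) ^ 2 - 1 = d * (d + 1 + 1) := by
        have : (d + 1) ^ 2 = d * (d + 1 + 1) + 1 := by ring
        rw [this, Nat.add_sub_cancel]
      have e2 : (d + 1) ^ 2 - (d + 1) = (d + 1) * d := by
        have : (d + 1) ^ 2 = (d + 1) * d + (d + 1) := by ring
        rw [this, Nat.add_sub_cancel]
      rw [e1, e2]
    rw [hfac] at hc
    have hc2 : Nat.card (PG 2 F) = q * ((q - 1) * (q + 1)) := by
      apply Nat.eq_of_mul_eq_mul_right (Nat.pos_of_ne_zero hq1)
      rw [hc]
      ring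
    rw [hc2] at hd
    have hco1 : Nat.Coprime (r ^ (a + 1)) q := Nat.Coprime.pow_left _ hrq
    have hd2 : r ^ (a + 1) ∣ (q - 1) * (q + 1) := hco1.dvd_of_dvd_mul_left hd
    have hrq1 : Nat.Coprime r (q + 1) := by
      rw [hr.coprime_iff_not_dvd]
      intro hd3
      have h1 : r ∣ (q + 1) - (q - 1) := Nat.dvd_sub hd3 hrd
      have h2 : (q + 1) - (q - 1) = 2 := by omega
      rw [h2] at h1
      exact hr2 ((Nat.prime_dvd_prime_iff_eq hr Nat.prime_two).mp h1)
    have hd3 : r ^ (a + 1) ∣ q - 1 :=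
      (Nat.Coprime.pow_left _ hrq1).dvd_of_dvd_mul_right hd2
    have := (hr.pow_dvd_iff_le_factorization hq1).mp hd3
    omega

end Cfsg.Agent.Lib.NilCover.PGL2A
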