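import Mathlib
import Cfsg.Agent.Lib.NilCover.PGL2A

/-!
# Nilpotent minimal covers of subgroups of `PGL₂` when `q - 1` is a power of two, `q ≥ 9`
-/

set_option autoImplicit false
set_option linter.style.haveILetI false
set_option linter.unusedSectionVars false

namespace Cfsg.Agent.Lib.NilCover.PGL2B

open Matrix Subgroup Cfsg.Agent.Lib.NilCover.Basic Cfsg.Agent.Lib.NilCover.PGLBase
  Cfsg.Agent.Lib.NilCover.PGLk Cfsg.Agent.Lib.NilCover.Central Cfsg.Agent.Lib.NilCover.PGL3
  Cfsg.Agent.Lib.NilCover.PGL2A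

variable {F : Type*} [Field F] [Fintype F]

/-- The image of `SL₂`. -/
noncomputable abbrev Lsub (F : Type*) [Field F] : Subgroup (PG 2 F) :=
  ((SpecialLinearGroup.toGL : SpecialLinearGroup (Fin 2) F →* GL (Fin 2) F).range).map prj

/-- The map from `SL₂`. -/
noncomputable abbrev phiL (F : Type*) [Field F] : SpecialLinearGroup (Fin 2) F →* PG 2 F :=
  prj.comp SpecialLinearGroup.toGL

theorem range_phiL : (phiL F).range = Lsub F := by
  rw [MonoidHom.range_comp]

theorem ker_phiL : (phiL F).ker = Subgroup.center (SpecialLinearGroup (Fin 2) F) := by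
  ext t
  rw [MonoidHom.mem_ker, MonoidHom.comp_apply, QuotientGroup.mk'_apply, QuotientGroup.eq_one_iff,
    SpecialLinearGroup.toGL_mem_center_iff]

/-- Order of the image of `SL₂`. -/
theorem card_Lsub (h2 : (2 : F) ≠ 0) :
    Nat.card (Lsub F) * 2 =
      Fintype.card F * ((Fintype.card F - 1) * (Fintype.card F + 1)) := by
  classical
  have hq2 : 2 ≤ Fintype.card F := Fintype.one_lt_card
  set q := Fintype.card F with hq
  have hqodd : ¬ 2 ∣ q := by
    obtain ⟨p, hchar⟩ := CharP.exists F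
    have hpp : p.Prime := CharP.char_is_prime F p
    haveI : Fact p.Prime := ⟨hpp⟩
    intro hd
    obtain ⟨f, -, hf⟩ := FiniteField.card F p
    rw [hq, hf] at hd
    have h1 : 2 ∣ p := Nat.prime_two.dvd_of_dvd_pow hd
    have h3 : 2 = p := (Nat.prime_dvd_prime_iff_eq Nat.prime_two hpp).mp h1
    apply h2
    have := CharP.cast_eq_zero F p
    rw [← h3] at this
    exact_mod_cast this
  have h1 := Subgroup.card_eq_card_quotient_mul_card_subgroup (phiL F).ker
  rw [Nat.card_congr (QuotientGroup.quotientKerEquivRange (phiL F)).toEquiv, range_phiL, ker_phiL,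
    Cfsg.Agent.Lib.Classical.SLBasic.card_center_sl, Fintype.card_fin, ← hq] at h1
  have hg : Nat.gcd (q - 1) 2 = 2 := by
    apply Nat.gcd_eq_right
    omega
  rw [hg] at h1
  rw [← h1]
  have h3 := Cfsg.Agent.Lib.Classical.SLBasic.card_gl_eq_mul_card_sl (F := F) (ι := Fin 2)
  rw [Matrix.card_GL_field] at h3
  simp only [Fin.prod_univ_two, Fin.val_zero, Fin.val_one, pow_zero, pow_one] at h3
  rw [← hq] at h3
  have hq1 : 0 < q - 1 := by omega
  apply Nat.eq_of_mul_eq_mul_left hq1
  rw [← h3]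
  obtain ⟨d, hd⟩ : ∃ d, q = d + 1 := ⟨q - 1, by omega⟩
  rw [hd]
  simp only [Nat.add_sub_cancel]
  have e1 : (d + 1) ^ 2 - 1 = d * (d + 1 + 1) := by
    have : (d + 1) ^ 2 = d * (d + 1 + 1) + 1 := by ring
    rw [this, Nat.add_sub_cancel]
  have e2 : (d + 1) ^ 2 - (d + 1) = (d + 1) * d := by
    have : (d + 1) ^ 2 = (d + 1) * d + (d + 1) := by ring
    rw [this, Nat.add_sub_cancel]
  rw [e1, e2]
  ring

/-- Squares on the diagonal come from `SL₂`. -/
theorem prj_dg_sq_mem (η : Fˣ) : prj (dg (η * η)) ∈ Lsub F := by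
  let s : SpecialLinearGroup (Fin 2) F :=
    ⟨!![(η : F), 0; 0, ((η⁻¹ : Fˣ) : F)], by
      rw [Matrix.det_fin_two_of]
      simp⟩
  have hs : dg (η * η) = sc η * SpecialLinearGroup.toGL s := by
    apply Units.ext
    rw [sc_mul_val, dg_val]
    have : (SpecialLinearGroup.toGL s).val = !![(η : F), 0; 0, ((η⁻¹ : Fˣ) : F)] := rfl
    rw [this]
    ext i j
    fin_cases i <;> fin_cases j <;> simp
  have : prj (dg (η * η)) = prj (SpecialLinearGroup.toGL s) := by
    rw [hs, map_mul, prj_sc, one_mul]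
  rw [this]
  exact ⟨_, ⟨s, rfl⟩, rfl⟩

/-- Stabilizer of a line in `GL₂`. -/
def LineStab (v : Fin 2 → F) (hv : v ≠ 0) : Subgroup (GL (Fin 2) F) where
  carrier := {g | ∃ c : F, g.val *ᵥ v = c • v}
  one_mem' := ⟨1, by rw [one_mulVec', one_smul]⟩
  mul_mem' := by
    rintro a b ⟨c, hc⟩ ⟨d, hd⟩
    refine ⟨d * c, ?_⟩
    rw [mulVec_mul, hd, Matrix.mulVec_smul, hc, smul_smul]
  inv_mem' := by
    rintro a ⟨c, hc⟩
    have hc0 : c ≠ 0 := by
      rintro rfl
      rw [zero_smul] at hc
      apply hv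
      have := mulVec_inv_mulVec a v
      rw [hc, Matrix.mulVec_zero] at this
      exact this.symm
    refine ⟨c⁻¹, ?_⟩
    have h1 := mulVec_inv_mulVec a v
    rw [hc, Matrix.mulVec_smul] at h1
    rw [← h1, smul_smul, inv_mul_cancel₀ hc0, one_smul, h1]

theorem mem_LineStab {v : Fin 2 → F} {hv : v ≠ 0} {g : GL (Fin 2) F} :
    g ∈ LineStab v hv ↔ ∃ c : F, g.val *ᵥ v = c • v := Iff.rfl

/-- Representative vectors of the projective line. -/
def vO : Option F → Fin 2 → F
  | none => ![1, 0]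
  | some a => ![a, 1]

theorem vO_ne (o : Option F) : vO o ≠ 0 := by
  cases o with
  | none =>
    intro h
    have := congrFun h 0
    simp [vO] at this
  | some a =>
    intro h
    have := congrFun h 1
    simp [vO] at this

theorem exists_vO {e : Fin 2 → F} (he : e ≠ 0) : ∃ (o : Option F) (κ : F), κ ≠ 0 ∧ e = κ • vO o := by
  by_cases h1 : e 1 = 0
  · have h0 : e 0 ≠ 0 := by
      intro h0
      apply he
      ext i
      fin_cases i
      · exact h0
      · exact h1
    refine ⟨none, e 0, h0, ?_⟩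
    ext i
    fin_cases i <;> simp [vO, h1]
  · refine ⟨some (e 0 / e 1), e 1, h1, ?_⟩
    ext i
    fin_cases i
    · simp [vO]
      field_simp
    · simp [vO]

/-- Subgroup of `G` induced by the stabilizer of a line. -/
noncomputable def Bsub (G : Subgroup (PG 2 F)) (o : Option F) : Subgroup G :=
  ((LineStab (vO o) (vO_ne o)).map prj).comap G.subtype

theorem Bsub_ne_top {G : Subgroup (PG 2 F)} (hG : Lsub F ≤ G) (o : Option F) : Bsub G o ≠ ⊤ := by
  intro htop
  set v := vO o with hv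
  have hv0 : v ≠ 0 := vO_ne o
  obtain ⟨i, hi⟩ := Function.ne_iff.mp hv0
  let φ : Fin 2 → F := Pi.single i (v i)⁻¹
  have hφv : φ ⬝ᵥ v = 1 := by
    have hi' : v i ≠ 0 := hi
    simp [φ, single_dotProduct, inv_mul_cancel₀ hi']
  have hφ0 : φ ≠ 0 := by
    intro h0
    rw [h0, zero_dotProduct] at hφv
    exact zero_ne_one hφv
  let w : Fin 2 → F := ![φ 1, -φ 0]
  have hφw : φ ⬝ᵥ w = 0 := by
    simp [w, dotProduct, Fin.sum_univ_two]
    ring
  have hw0 : w ≠ 0 := by
    intro h0
    have h1 := congrFun h0 0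
    have h2 := congrFun h0 1
    simp [w] at h1 h2
    apply hφ0
    ext j
    fin_cases j
    · exact h2
    · exact h1
  have hm : prj (SpecialLinearGroup.toGL (tv w φ hφw)) ∈ G := hG ⟨_, ⟨_, rfl⟩, rfl⟩
  have hmem : (⟨_, hm⟩ : G) ∈ Bsub G o := htop ▸ mem_top _
  obtain ⟨g, ⟨c, hc⟩, hg⟩ := hmem
  obtain ⟨c', hc'⟩ := prj_eq_iff.mp (show prj g = prj (SpecialLinearGroup.toGL (tv w φ hφw)) from hg)
  have h1 := congrArg (fun y : GL (Fin 2) F => y.val *ᵥ v) hc'
  simp only [mulVec_mul, sc_mulVec] at h1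
  have hc2 : g.val *ᵥ v = c • v := hc
  rw [tv_val, tmat_mulVec, hφv, one_smul, hc2, smul_smul] at h1
  -- `v + w = κ v`
  have h2 : φ ⬝ᵥ (v + w) = φ ⬝ᵥ (((c' : F) * c) • v) := by rw [h1]
  rw [dotProduct_add, hφv, hφw, dotProduct_smul, hφv] at h2
  simp only [add_zero, smul_eq_mul, mul_one] at h2
  rw [← h2, one_smul] at h1
  exact hw0 (add_eq_left.mp h1)

/-- The reflection `y_b`. -/
noncomputable def yb (h2 : (2 : F) ≠ 0) (b : F) : GL (Fin 2) F :=
  mk2 (-1) b 0 1 (by simp)

theorem yb_val (h2 : (2 : F) ≠ 0) (b : F) : (yb h2 b).val = !![-1, b; 0, 1] := rfl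

theorem yb_sq (h2 : (2 : F) ≠ 0) (b : F) : yb h2 b ^ 2 = 1 := by
  apply Units.ext
  rw [Units.val_pow_eq_pow_val, yb_val, pow_two, Matrix.mul_fin_two, Units.val_one, Matrix.one_fin_two]
  simp

theorem yb_ne (h2 : (2 : F) ≠ 0) (b : F) : yb h2 b ≠ 1 := by
  intro h
  have h1 : (yb h2 b).val = 1 := by rw [h, Units.val_one]
  rw [yb_val] at h1
  have h3 := congrFun (congrFun h1 0) 0
  simp at h3
  apply h2
  have : (2 : F) = 1 - (-1) := by ring
  rw [this, h3, sub_self]

theorem yb_fix (h2 : (2 : F) ≠ 0) (b : F) : (yb h2 b).val *ᵥ ![b, 2] = ![b, 2] := by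
  rw [yb_val]
  ext i
  fin_cases i
  · simp [Matrix.mulVec, dotProduct, Fin.sum_univ_two]
    ring
  · simp [Matrix.mulVec, dotProduct, Fin.sum_univ_two]

theorem yb_vec_ne (h2 : (2 : F) ≠ 0) (b : F) : (![b, 2] : Fin 2 → F) ≠ 0 := by
  intro h
  have := congrFun h 1
  simp at this
  exact h2 this

theorem prj_yb_mem {i : Fˣ} (hi : (i : F) * i = -1) (h2 : (2 : F) ≠ 0) (b : F) :
    prj (yb h2 b) ∈ Lsub F := by
  have hdet : GeneralLinearGroup.det (sc i * yb h2 b) = 1 := by
    apply Units.ext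
    rw [map_mul, GeneralLinearGroup.det_scalar, Fintype.card_fin, Units.val_mul]
    have : (GeneralLinearGroup.det (yb h2 b) : Fˣ).val = (yb h2 b).val.det := rfl
    rw [this, yb_val, Matrix.det_fin_two_of, Units.val_pow_eq_pow_val, pow_two, hi]
    simp
  have hmem : sc i * yb h2 b ∈ (SpecialLinearGroup.toGL : SpecialLinearGroup (Fin 2) F →* GL (Fin 2) F).range := by
    rw [Cfsg.Agent.Lib.Classical.SLBasic.range_toGL_eq_ker_det]
    exact hdet
  have h3 : prj (sc i * yb h2 b) ∈ Lsub F := ⟨_, hmem, rfl⟩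
  rwa [map_mul, prj_sc, one_mul] at h3

/-- The conjugation relation for `diag(-1, 1)` forces a monomial matrix. -/
theorem monomial_of_conj (h2 : (2 : F) ≠ 0) {m : GL (Fin 2) F} {c : Fˣ}
    (h : m * dg (-1) * m⁻¹ = sc c * dg (-1)) :
    (m.val 0 1 = 0 ∧ m.val 1 0 = 0) ∨ (m.val 0 0 = 0 ∧ m.val 1 1 = 0) := by
  have hm := conj_matrix h
  rw [dg_val, Matrix.eta_fin_two m.val] at hm
  obtain ⟨e00, e01, e10, e11⟩ := entries_diag hm
  simp only [Units.val_neg, Units.val_one] at e00 e01 e10 e11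
  by_cases hc : c = 1
  · subst hc
    left
    simp only [Units.val_one] at e01 e10
    constructor
    · have : 2 * m.val 0 1 = 0 := by linear_combination e01
      exact (mul_eq_zero.mp this).resolve_left h2
    · have : 2 * m.val 1 0 = 0 := by linear_combination -e10
      exact (mul_eq_zero.mp this).resolve_left h2
  · right
    have hc' : (c : F) ≠ 1 := fun h1 => hc (Units.ext h1)
    have hc2 : (1 : F) - c ≠ 0 := sub_ne_zero.mpr hc'.symm
    constructor
    · have : m.val 0 0 * (1 - c) = 0 := by linear_combination -e00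
      exact (mul_eq_zero.mp this).resolve_right hc2
    · have : m.val 1 1 * (1 - c) = 0 := by linear_combination e11
      exact (mul_eq_zero.mp this).resolve_right hc2

/-- The covering statement for elements commuting with a conjugate of `diag(-1, 1)`. -/
theorem cover_of_conj (h2 : (2 : F) ≠ 0) {g t : GL (Fin 2) F}
    (hc : prj g * prj (t * dg (-1) * t⁻¹) = prj (t * dg (-1) * t⁻¹) * prj g) :
    (∃ o : Option F, g ∈ LineStab (vO o) (vO_ne o)) ∨
      ∃ b : F, prj g * prj (yb h2 b) = prj (yb h2 b) * prj g := by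
  obtain ⟨c, hc'⟩ := prj_comm_iff.mp hc
  set m := t⁻¹ * g * t with hm
  have hgm : g = t * m * t⁻¹ := by rw [hm]; group
  have h1 : m * dg (-1) * m⁻¹ = sc c * dg (-1) := by
    have h3 : t⁻¹ * (g * (t * dg (-1) * t⁻¹) * g⁻¹) * t = t⁻¹ * (sc c * (t * dg (-1) * t⁻¹)) * t := by
      rw [hc']
    have h4 : m * dg (-1) * m⁻¹ = t⁻¹ * (g * (t * dg (-1) * t⁻¹) * g⁻¹) * t := by
      rw [hm]; group
    rw [h4, h3]
    calc t⁻¹ * (sc c * (t * dg (-1) * t⁻¹)) * t = t⁻¹ * (sc c * t) * dg (-1) * (t⁻¹ * t) := by group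
      _ = t⁻¹ * (t * sc c) * dg (-1) * (t⁻¹ * t) := by rw [sc_mul_comm c t]
      _ = sc c * dg (-1) := by group
  rcases monomial_of_conj h2 h1 with ⟨h01, h10⟩ | ⟨h00, h11⟩
  · left
    -- eigenvector
    let e₁ : Fin 2 → F := ![1, 0]
    let e : Fin 2 → F := t.val *ᵥ e₁
    have he : e ≠ 0 := by
      intro h0
      have h3 := mulVec_inv_mulVec t e₁
      change t⁻¹.val *ᵥ e = e₁ at h3
      rw [h0, Matrix.mulVec_zero] at h3
      have := congrFun h3 0
      simp [e₁] at this
    have hme : m.val *ᵥ e₁ = m.val 0 0 • e₁ := by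
      ext i
      fin_cases i
      · simp [e₁, Matrix.mulVec, dotProduct, Fin.sum_univ_two]
      · simp [e₁, Matrix.mulVec, dotProduct, Fin.sum_univ_two, h10]
    have hge : g.val *ᵥ e = m.val 0 0 • e := by
      have h3 : g * t = t * m := by rw [hgm]; group
      have h4 := congrArg (fun y : GL (Fin 2) F => y.val *ᵥ e₁) h3
      simp only [mulVec_mul] at h4
      rw [h4, hme, Matrix.mulVec_smul]
    obtain ⟨o, κ, hκ, heo⟩ := exists_vO he
    refine ⟨o, m.val 0 0, ?_⟩
    rw [heo, Matrix.mulVec_smul, smul_comm] at hge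
    exact smul_right_injective _ hκ hge
  · -- the square is scalar
    have hmm : (m * m).val = (m.val 0 1 * m.val 1 0) • (1 : Matrix (Fin 2) (Fin 2) F) := by
      rw [Units.val_mul, Matrix.eta_fin_two m.val, Matrix.mul_fin_two, Matrix.one_fin_two, h00, h11]
      ext i j
      fin_cases i <;> fin_cases j <;> simp [mul_comm]
    have hgg : (g * g).val = (m.val 0 1 * m.val 1 0) • (1 : Matrix (Fin 2) (Fin 2) F) := by
      have h3 : g * g = t * (m * m) * t⁻¹ := by rw [hgm]; group
      rw [h3, Units.val_mul, Units.val_mul, hmm, Matrix.mul_smul, mul_one, Matrix.smul_mul, ← Units.val_mul,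
        mul_inv_cancel, Units.val_one]
    have h10' : (g * g).val 1 0 = 0 := by
      rw [hgg]
      simp
    rw [Units.val_mul, Matrix.mul_apply, Fin.sum_univ_two] at h10'
    by_cases hγ : g.val 1 0 = 0
    · left
      refine ⟨none, g.val 0 0, ?_⟩
      ext i
      fin_cases i
      · simp [vO, Matrix.mulVec, dotProduct, Fin.sum_univ_two]
      · simp [vO, Matrix.mulVec, dotProduct, Fin.sum_univ_two, hγ]
    · right
      have hsum : g.val 0 0 + g.val 1 1 = 0 := by
        have : g.val 1 0 * (g.val 0 0 + g.val 1 1) = 0 := by linear_combination h10'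
        exact (mul_eq_zero.mp this).resolve_left hγ
      obtain ⟨b, hb⟩ : ∃ b : F, b * g.val 1 0 = 2 * g.val 0 0 :=
        ⟨2 * g.val 0 0 / g.val 1 0, by field_simp⟩
      refine ⟨b, prj_comm_iff.mpr ⟨-1, ?_⟩⟩
      have h5 : g * yb h2 b = sc (-1) * yb h2 b * g := by
        apply Units.ext
        rw [Units.val_mul, Units.val_mul, sc_mul_val, yb_val, Matrix.smul_mul,
          Matrix.eta_fin_two g.val, Matrix.mul_fin_two, Matrix.mul_fin_two]
        have hd : g.val 1 1 = - g.val 0 0 := by linear_combination hsum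
        ext i j
        fin_cases i <;> fin_cases j <;> simp [hd]
        · linear_combination hb
        · ring
        · linear_combination hb
      rw [h5]
      group

end Cfsg.Agent.Lib.NilCover.PGL2B
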