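import Mathlib
import Cfsg.Agent.Lib.NilCover.Basic

/-!
# Alternating and symmetric groups have no nilpotent minimal cover
-/

set_option autoImplicit false
set_option linter.style.haveILetI false
set_option linter.unusedSectionVars false

namespace Cfsg.Agent.Lib.NilCover.Perm

open Subgroup Equiv Equiv.Perm Cfsg.Agent.Lib.NilCover.Basic

section arith

theorem exists_prime_between {n : ℕ} (hn : 6 ≤ n) : ∃ q, q.Prime ∧ 5 ≤ q ∧ q < n ∧ n < 2 * q := by
  obtain ⟨q, hq, h1, h2⟩ := Nat.exists_prime_lt_and_le_two_mul (n / 2) (by omega)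
  have h3 : 4 ≤ q := by omega
  have h4 : q ≠ 4 := by
    rintro rfl
    exact absurd hq (by norm_num)
  refine ⟨q, hq, by omega, ?_, by omega⟩
  by_contra hlt
  have h5 : q = n := by omega
  have h6 : n = 2 * (n / 2) := by omega
  have h7 : 2 ∣ q := by
    rw [h5, h6]; exact Dvd.intro _ rfl
  have h8 := (Nat.prime_dvd_prime_iff_eq Nat.prime_two hq).mp h7
  omega

theorem not_sq_dvd_factorial {q n : ℕ} (hq : q.Prime) (hn : n < 2 * q) : ¬ q ^ 2 ∣ n.factorial := by
  haveI : Fact q.Prime := ⟨hq⟩
  intro hd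
  have h2 : 2 ≤ q := hq.two_le
  have hlog : Nat.log q n < 3 := by
    apply Nat.log_lt_of_lt_pow'  (by omega)
    calc n < 2 * q := hn
      _ ≤ q * q := Nat.mul_le_mul_right q h2
      _ ≤ q * q * q := Nat.le_mul_of_pos_right _ (by omega)
      _ = q ^ 3 := by ring
  have hv := padicValNat_factorial (p := q) (n := n) hlog
  have hv2 : 2 ≤ padicValNat q n.factorial := by
    exact (padicValNat_dvd_iff_le (Nat.factorial_ne_zero n)).mp hd
  rw [hv] at hv2
  have hs : ∑ i ∈ Finset.Ico 1 3, n / q ^ i = n / q ^ 1 + n / q ^ 2 := by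
    rw [Finset.sum_Ico_succ_top (by norm_num), Finset.sum_Ico_succ_top (by norm_num)]
    simp
  rw [hs] at hv2
  have h3 : n / q ^ 1 < 2 := by
    rw [pow_one]
    exact Nat.div_lt_of_lt_mul (by rw [mul_comm]; exact hn)
  have h4 : n / q ^ 2 = 0 := by
    apply Nat.div_eq_of_lt
    calc n < 2 * q := hn
      _ ≤ q * q := Nat.mul_le_mul_right q h2
      _ = q ^ 2 := by ring
  omega

end arith

variable {α : Type*} [Fintype α] [DecidableEq α]

/-- A permutation normalizing the group generated by a cycle of prime order and fixing two points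
of its support fixes the whole support. -/
theorem fixes_support_of_normalizes {σ τ : Perm α} (hσ : σ.IsCycle) {q : ℕ} (hq : q.Prime)
    (hord : orderOf σ = q) {k : ℤ} (hk : τ * σ * τ⁻¹ = σ ^ k) {d e : α} (hd : σ d ≠ d)
    (he : σ e ≠ e) (hde : d ≠ e) (hτd : τ d = d) (hτe : τ e = e) {x : α} (hx : σ x ≠ x) :
    τ x = x := by
  have hfix : ∀ m : ℤ, (σ ^ m) d = d → (q : ℤ) ∣ m := by
    intro m hm
    by_contra hnd
    have hcop : IsCoprime m (q : ℤ) :=
      ((Prime.coprime_iff_not_dvd (Nat.prime_iff_prime_int.mp hq)).mpr hnd).symm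
    obtain ⟨u, v, huv⟩ := hcop
    have h1 : σ = (σ ^ m) ^ u := by
      have h2 : σ ^ ((q : ℤ) * v) = 1 := by
        rw [zpow_mul, zpow_natCast, ← hord, pow_orderOf_eq_one, one_zpow]
      calc σ = σ ^ (u * m + v * q) := by rw [huv, zpow_one]
        _ = (σ ^ m) ^ u * σ ^ ((q : ℤ) * v) := by
          rw [zpow_add, ← zpow_mul, mul_comm m u, mul_comm v]
        _ = (σ ^ m) ^ u := by rw [h2, mul_one]
    apply hd
    rw [h1]
    exact Equiv.Perm.zpow_apply_eq_self_of_apply_eq_self hm u
  obtain ⟨j, hj⟩ := hσ.sameCycle hd he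
  have hact : ∀ i : ℤ, τ ((σ ^ i) d) = (σ ^ (k * i)) d := by
    intro i
    have h1 : τ * σ ^ i * τ⁻¹ = σ ^ (k * i) := by
      rw [← conj_zpow, hk, zpow_mul]
    have h2 : (τ * σ ^ i * τ⁻¹) (τ d) = τ ((σ ^ i) d) := by
      simp [Perm.mul_apply]
    rw [← h2, h1, hτd]
  have h1 : (σ ^ (k * j)) d = (σ ^ j) d := by
    rw [← hact j, hj, hτe]
  have h2 : (σ ^ ((k - 1) * j)) d = d := by
    have e1 : (k - 1) * j = -j + k * j := by ring
    rw [e1, zpow_add, Perm.mul_apply, h1, ← Perm.mul_apply, ← zpow_add]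
    simp
  have h3 : (q : ℤ) ∣ (k - 1) * j := hfix _ h2
  have hqp : Prime (q : ℤ) := Nat.prime_iff_prime_int.mp hq
  have hsig : σ ^ ((q : ℤ)) = 1 := by
    rw [zpow_natCast, ← hord, pow_orderOf_eq_one]
  have h4 : (q : ℤ) ∣ k - 1 := by
    rcases hqp.dvd_or_dvd h3 with h | h
    · exact h
    · exfalso
      obtain ⟨t, rfl⟩ := h
      apply hde
      rw [← hj, zpow_mul, hsig, one_zpow]
      rfl
  obtain ⟨t, ht⟩ := h4
  have h5 : σ ^ k = σ := by
    have : k = 1 + q * t := by omega
    rw [this, zpow_add, zpow_one, zpow_mul, hsig, one_zpow, mul_one]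
  obtain ⟨i, rfl⟩ := hσ.sameCycle hd hx
  rw [hact i, zpow_mul, h5]

/-- The three-cycle `a → b → c → a`. -/
def c3 (a b c : α) : Perm α := swap a b * swap b c

theorem c3_mem {a b c : α} (hab : a ≠ b) (hbc : b ≠ c) : c3 a b c ∈ alternatingGroup α := by
  rw [Equiv.Perm.mem_alternatingGroup, c3, map_mul, sign_swap hab, sign_swap hbc]
  simp

theorem c3_apply_left {a b c : α} (hab : a ≠ b) (hac : a ≠ c) : c3 a b c a = b := by
  simp [c3, Perm.mul_apply, swap_apply_of_ne_of_ne hab hac]

theorem c3_apply_other {a b c x : α} (hxa : x ≠ a) (hxb : x ≠ b) (hxc : x ≠ c) : c3 a b c x = x := by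
  simp [c3, Perm.mul_apply, swap_apply_of_ne_of_ne hxb hxc, swap_apply_of_ne_of_ne hxa hxb]

/-- Large degree case, in any group between the alternating and the full symmetric group. -/
theorem large_case {n : ℕ} (hn : 6 ≤ n) (Γ : Subgroup (Perm (Fin n)))
    (hΓ : alternatingGroup (Fin n) ≤ Γ) {𝓐 : Finset (Subgroup Γ)} (h : IsNilMinCover 𝓐) : False := by
  classical
  obtain ⟨q, hq, hq5, hqn, hnq⟩ := exists_prime_between hn
  haveI : Fact q.Prime := ⟨hq⟩
  -- the cycle
  obtain ⟨σ, hσt⟩ : ∃ g : Perm (Fin n), g.cycleType = {q} := by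
    apply (Equiv.Perm.exists_with_cycleType_iff (Fin n)).mpr
    simp only [Multiset.sum_singleton, Multiset.mem_singleton, Fintype.card_fin, forall_eq]
    exact ⟨hqn.le, hq.two_le⟩
  have hcyc : σ.IsCycle := by
    rw [← card_cycleType_eq_one, hσt]; simp
  have hsup : σ.support.card = q := by
    rw [← sum_cycleType, hσt]; simp
  have hord : orderOf σ = q := by
    rw [hcyc.orderOf, hsup]
  have hqodd : Odd q := hq.odd_of_ne_two (by omega)
  have hσA : σ ∈ alternatingGroup (Fin n) := by
    rw [Equiv.Perm.mem_alternatingGroup, hcyc.sign, hsup, hqodd.neg_one_pow]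
    simp
  set S := σ.support with hS
  -- points
  obtain ⟨f⟩ : Nonempty (Fin 5 ↪ S) :=
    Function.Embedding.nonempty_of_card_le (by simp [hsup, hq5])
  obtain ⟨y, hy⟩ : ∃ y : Fin n, y ∉ S := by
    by_contra hall
    push Not at hall
    have : S = Finset.univ := Finset.eq_univ_of_forall hall
    rw [this] at hsup
    simp at hsup
    omega
  let a : Fin n := f 0
  let b : Fin n := f 1
  let c : Fin n := f 2
  let d : Fin n := f 3
  let e : Fin n := f 4
  have hne : ∀ i j : Fin 5, i ≠ j → (f i : Fin n) ≠ f j := by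
    intro i j hij hc
    exact hij (f.injective (Subtype.ext hc))
  have hmem : ∀ i : Fin 5, (f i : Fin n) ∈ S := fun i => (f i).2
  have hS' : ∀ x, x ∈ S ↔ σ x ≠ x := fun x => mem_support
  -- the group and its elements
  let s : Γ := ⟨σ, hΓ hσA⟩
  have hso : orderOf s = q := by
    rw [Subgroup.orderOf_mk, hord]
  have hcardΓ : (Nat.card Γ).factorization q = 1 := by
    have h1 : q ∣ Nat.card Γ := hso ▸ orderOf_dvd_natCard s
    have h2 : ¬ q ^ 2 ∣ Nat.card Γ := by
      intro hd
      have h3 : Nat.card Γ ∣ n.factorial := by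
        have := Subgroup.card_subgroup_dvd_card Γ
        rwa [Nat.card_eq_fintype_card (α := Perm (Fin n)), Fintype.card_perm, Fintype.card_fin]
          at this
      exact not_sq_dvd_factorial hq hnq (hd.trans h3)
    have h4 : 1 ≤ (Nat.card Γ).factorization q := by
      apply (hq.pow_dvd_iff_le_factorization Nat.card_pos.ne').mp
      simpa using h1
    have h5 : ¬ 2 ≤ (Nat.card Γ).factorization q := by
      intro hle
      exact h2 ((hq.pow_dvd_iff_le_factorization Nat.card_pos.ne').mpr hle)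
    omega
  -- the stabilizer of the support
  let H : Subgroup Γ :=
    { carrier := {g | ∀ x, x ∈ S ↔ (g : Perm (Fin n)) x ∈ S}
      one_mem' := by
        intro x
        rfl
      mul_mem' := by
        intro u v hu hv x
        rw [hv x, hu]
        rfl
      inv_mem' := by
        intro u hu x
        have := hu ((u : Perm (Fin n))⁻¹ x)
        have e1 : (u : Perm (Fin n)) ((u : Perm (Fin n))⁻¹ x) = x := by simp
        rw [e1] at this
        exact this.symm }
  have hHtop : H ≠ ⊤ := by
    intro ht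
    have ha : a ∈ S := hmem 0
    have hay : a ≠ y := fun h => hy (h ▸ ha)
    have hby : y ≠ b := fun h => hy (h ▸ hmem 1)
    let t : Γ := ⟨c3 a y b, hΓ (c3_mem hay hby)⟩
    have hab : a ≠ b := hne 0 1 (by decide)
    have ht1 : t ∈ H := ht ▸ Subgroup.mem_top t
    have := (ht1 a).mp ha
    have e1 : (t : Perm (Fin n)) a = y := c3_apply_left hay hab
    rw [e1] at this
    exact hy this
  have hCH : centralizer ((zpowers s : Subgroup Γ) : Set Γ) ≤ H := by
    intro g hg x
    have h1 : g * s = s * g := by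
      exact (mem_centralizer_iff.mp hg) s (mem_zpowers s) |>.symm
    have h2 : ∀ z, (g : Perm (Fin n)) (σ z) = σ ((g : Perm (Fin n)) z) := by
      intro z
      have := congrArg (fun w : Γ => (w : Perm (Fin n)) z) h1
      simpa [Perm.mul_apply, s] using this
    rw [hS', hS', ← h2]
    constructor
    · intro hx hc
      exact hx ((g : Perm (Fin n)).injective hc)
    · intro hx hc
      exact hx (by rw [hc])
  have hab : a ≠ b := hne 0 1 (by decide)
  have hbc : b ≠ c := hne 1 2 (by decide)
  have hac : a ≠ c := hne 0 2 (by decide)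
  let τ : Γ := ⟨c3 a b c, hΓ (c3_mem hab hbc)⟩
  have hτd : (τ : Perm (Fin n)) d = d :=
    c3_apply_other (hne 3 0 (by decide)) (hne 3 1 (by decide)) (hne 3 2 (by decide))
  have hτe : (τ : Perm (Fin n)) e = e :=
    c3_apply_other (hne 4 0 (by decide)) (hne 4 1 (by decide)) (hne 4 2 (by decide))
  have hτa : (τ : Perm (Fin n)) a = b := c3_apply_left hab hac
  have hτH : τ ∈ H := by
    intro x
    by_cases hxa : x = a
    · subst hxa
      rw [hτa]
      exact ⟨fun _ => hmem 1, fun _ => hmem 0⟩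
    · by_cases hxb : x = b
      · have : (τ : Perm (Fin n)) x = c := by
          rw [hxb]
          simp [τ, c3, Perm.mul_apply, swap_apply_of_ne_of_ne hac.symm hbc.symm]
        rw [this, hxb]
        exact ⟨fun _ => hmem 2, fun _ => hmem 1⟩
      · by_cases hxc : x = c
        · have : (τ : Perm (Fin n)) x = a := by
            rw [hxc]
            simp [τ, c3, Perm.mul_apply]
          rw [this, hxc]
          exact ⟨fun _ => hmem 0, fun _ => hmem 2⟩
        · have : (τ : Perm (Fin n)) x = x := c3_apply_other hxa hxb hxc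
          rw [this]
  refine false_of_sylow_element (p := q) h (σ := s) (by rw [hso, hcardΓ, pow_one]) hHtop hCH hτH ?_
  intro hnorm
  have h1 : τ * s * τ⁻¹ ∈ zpowers s := by
    exact (mem_normalizer_iff.mp hnorm s).mp (mem_zpowers s)
  obtain ⟨k, hk⟩ := mem_zpowers_iff.mp h1
  have hk' : (τ : Perm (Fin n)) * σ * (τ : Perm (Fin n))⁻¹ = σ ^ k := by
    have := congrArg (fun w : Γ => (w : Perm (Fin n))) hk
    simpa [s] using this.symm
  have hfixa := fixes_support_of_normalizes hcyc hq hord hk' ((hS' _).mp (hmem 3))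
    ((hS' _).mp (hmem 4)) (hne 3 4 (by decide)) hτd hτe ((hS' _).mp (hmem 0))
  exact hab (by rw [← hτa]; exact hfixa.symm)

/-- A small-degree case given by explicit elements. -/
theorem small_case {n q : ℕ} (hq : q.Prime) (hnq : n < 2 * q) (Γ : Subgroup (Perm (Fin n)))
    {𝓐 : Finset (Subgroup Γ)} (h : IsNilMinCover 𝓐) (s τ : Γ) (hso : orderOf s = q)
    (H : Subgroup Γ) (hHt : H ≠ ⊤) (hCH : ∀ g : Γ, g * s = s * g → g ∈ H) (hτH : τ ∈ H)
    (hτ : ∀ k : ℕ, τ * s * τ⁻¹ ≠ s ^ k) : False := by
  haveI : Fact q.Prime := ⟨hq⟩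
  have hcardΓ : (Nat.card Γ).factorization q = 1 := by
    have h1 : q ∣ Nat.card Γ := hso ▸ orderOf_dvd_natCard s
    have h2 : ¬ q ^ 2 ∣ Nat.card Γ := by
      intro hd
      have h3 : Nat.card Γ ∣ n.factorial := by
        have := Subgroup.card_subgroup_dvd_card Γ
        rwa [Nat.card_eq_fintype_card (α := Perm (Fin n)), Fintype.card_perm, Fintype.card_fin]
          at this
      exact not_sq_dvd_factorial hq hnq (hd.trans h3)
    have h4 : 1 ≤ (Nat.card Γ).factorization q := by
      apply (hq.pow_dvd_iff_le_factorization Nat.card_pos.ne').mp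
      simpa using h1
    have h5 : ¬ 2 ≤ (Nat.card Γ).factorization q := by
      intro hle
      exact h2 ((hq.pow_dvd_iff_le_factorization Nat.card_pos.ne').mpr hle)
    omega
  refine false_of_sylow_element (p := q) h (σ := s) (by rw [hso, hcardΓ, pow_one]) hHt ?_ hτH ?_
  · intro g hg
    exact hCH g ((mem_centralizer_iff.mp hg) s (mem_zpowers s)).symm
  · intro hnorm
    have h1 : τ * s * τ⁻¹ ∈ zpowers s := (mem_normalizer_iff.mp hnorm s).mp (mem_zpowers s)
    obtain ⟨k, hk⟩ := (mem_powers_iff_mem_zpowers.mpr h1)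
    exact hτ k hk.symm

section small

/-- `S₄`. -/
theorem case_S4 {𝓐 : Finset (Subgroup (⊤ : Subgroup (Perm (Fin 4))))} (h : IsNilMinCover 𝓐) : False := by
  let σ : Perm (Fin 4) := c3 0 1 2
  let t : Perm (Fin 4) := swap 0 1 * swap 2 3
  refine small_case (n := 4) (q := 3) (by norm_num) (by norm_num) ⊤ h ⟨σ, mem_top _⟩ ⟨t, mem_top _⟩ ?_
    ((alternatingGroup (Fin 4)).comap (⊤ : Subgroup (Perm (Fin 4))).subtype) ?_ ?_ ?_ ?_
  · rw [Subgroup.orderOf_mk]
    exact orderOf_eq_prime (by decide) (by decide)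
  · intro ht
    have : (⟨swap 0 1, mem_top _⟩ : (⊤ : Subgroup (Perm (Fin 4)))) ∈
        ((alternatingGroup (Fin 4)).comap (⊤ : Subgroup (Perm (Fin 4))).subtype) := ht ▸ mem_top _
    revert this
    simp only [mem_comap, subtype_apply, Equiv.Perm.mem_alternatingGroup]
    decide
  · rintro ⟨g, hgm⟩ hg
    have hg' : g * σ = σ * g := congrArg Subtype.val hg
    simp only [mem_comap, subtype_apply, Equiv.Perm.mem_alternatingGroup]
    clear hg hgm
    revert g
    decide
  · simp only [mem_comap, subtype_apply, Equiv.Perm.mem_alternatingGroup]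
    decide
  · intro k hk
    have hk' : t * σ * t⁻¹ = σ ^ k := congrArg Subtype.val hk
    have hσ3 : σ ^ 3 = 1 := by decide
    have : σ ^ k = σ ^ (k % 3) := by
      conv_lhs => rw [← Nat.div_add_mod k 3, pow_add, pow_mul, hσ3, one_pow, one_mul]
    rw [this] at hk'
    have hlt : k % 3 < 3 := Nat.mod_lt _ (by norm_num)
    interval_cases (k % 3) <;> revert hk' <;> decide

/-- `S₅`. -/
theorem case_S5 {𝓐 : Finset (Subgroup (⊤ : Subgroup (Perm (Fin 5))))} (h : IsNilMinCover 𝓐) : False := by
  let σ : Perm (Fin 5) := swap 0 1 * swap 1 2 * swap 2 3 * swap 3 4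
  let t : Perm (Fin 5) := c3 0 1 2
  haveI : Fact (Nat.Prime 5) := ⟨by norm_num⟩
  refine small_case (n := 5) (q := 5) (by norm_num) (by norm_num) ⊤ h ⟨σ, mem_top _⟩ ⟨t, mem_top _⟩ ?_
    ((alternatingGroup (Fin 5)).comap (⊤ : Subgroup (Perm (Fin 5))).subtype) ?_ ?_ ?_ ?_
  · rw [Subgroup.orderOf_mk]
    exact orderOf_eq_prime (by decide +kernel) (by decide +kernel)
  · intro ht
    have : (⟨swap 0 1, mem_top _⟩ : (⊤ : Subgroup (Perm (Fin 5)))) ∈
        ((alternatingGroup (Fin 5)).comap (⊤ : Subgroup (Perm (Fin 5))).subtype) := ht ▸ mem_top _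
    revert this
    simp only [mem_comap, subtype_apply, Equiv.Perm.mem_alternatingGroup]
    decide +kernel
  · rintro ⟨g, hgm⟩ hg
    have hg' : g * σ = σ * g := congrArg Subtype.val hg
    simp only [mem_comap, subtype_apply, Equiv.Perm.mem_alternatingGroup]
    clear hg hgm
    revert g
    decide +kernel
  · simp only [mem_comap, subtype_apply, Equiv.Perm.mem_alternatingGroup]
    decide +kernel
  · intro k hk
    have hk' : t * σ * t⁻¹ = σ ^ k := congrArg Subtype.val hk
    have hσ3 : σ ^ 5 = 1 := by decide +kernel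
    have : σ ^ k = σ ^ (k % 5) := by
      conv_lhs => rw [← Nat.div_add_mod k 5, pow_add, pow_mul, hσ3, one_pow, one_mul]
    rw [this] at hk'
    have hlt : k % 5 < 5 := Nat.mod_lt _ (by norm_num)
    interval_cases (k % 5) <;> revert hk' <;> decide +kernel

/-- `A₅`. -/
theorem case_A5 {𝓐 : Finset (Subgroup (alternatingGroup (Fin 5)))} (h : IsNilMinCover 𝓐) : False := by
  let σ : Perm (Fin 5) := c3 0 1 2
  let t : Perm (Fin 5) := swap 0 1 * swap 2 3
  have hσA : σ ∈ alternatingGroup (Fin 5) := by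
    rw [Equiv.Perm.mem_alternatingGroup]; decide +kernel
  have htA : t ∈ alternatingGroup (Fin 5) := by
    rw [Equiv.Perm.mem_alternatingGroup]; decide +kernel
  refine small_case (n := 5) (q := 3) (by norm_num) (by norm_num) _ h ⟨σ, hσA⟩ ⟨t, htA⟩ ?_
    ((MulAction.stabilizer (Perm (Fin 5)) (4 : Fin 5)).comap (alternatingGroup (Fin 5)).subtype)
    ?_ ?_ ?_ ?_
  · rw [Subgroup.orderOf_mk]
    exact orderOf_eq_prime (by decide +kernel) (by decide +kernel)
  · intro ht
    have hm : c3 (4 : Fin 5) 0 1 ∈ alternatingGroup (Fin 5) := by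
      rw [Equiv.Perm.mem_alternatingGroup]; decide +kernel
    have : (⟨c3 4 0 1, hm⟩ : alternatingGroup (Fin 5)) ∈
        ((MulAction.stabilizer (Perm (Fin 5)) (4 : Fin 5)).comap (alternatingGroup (Fin 5)).subtype) :=
      ht ▸ mem_top _
    revert this
    simp only [mem_comap, subtype_apply, MulAction.mem_stabilizer_iff, Perm.smul_def]
    decide +kernel
  · rintro ⟨g, hgm⟩ hg
    have hg' : g * σ = σ * g := congrArg Subtype.val hg
    simp only [mem_comap, subtype_apply, MulAction.mem_stabilizer_iff, Perm.smul_def]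
    have hgm' := hgm
    rw [Equiv.Perm.mem_alternatingGroup] at hgm'
    clear hg hgm
    revert g
    decide +kernel
  · simp only [mem_comap, subtype_apply, MulAction.mem_stabilizer_iff, Perm.smul_def]
    decide +kernel
  · intro k hk
    have hk' : t * σ * t⁻¹ = σ ^ k := congrArg Subtype.val hk
    have hσ3 : σ ^ 3 = 1 := by decide +kernel
    have : σ ^ k = σ ^ (k % 3) := by
      conv_lhs => rw [← Nat.div_add_mod k 3, pow_add, pow_mul, hσ3, one_pow, one_mul]
    rw [this] at hk'
    have hlt : k % 3 < 3 := Nat.mod_lt _ (by norm_num)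
    interval_cases (k % 3) <;> revert hk' <;> decide +kernel

end small

/-- Alternating groups of degree at least five. -/
theorem no_cover_alternating {n : ℕ} (hn : 5 ≤ n) {𝓐 : Finset (Subgroup (alternatingGroup (Fin n)))}
    (h : IsNilMinCover 𝓐) : False := by
  rcases Nat.eq_or_lt_of_le hn with rfl | hn'
  · exact case_A5 h
  · exact large_case (by omega) _ le_rfl h

/-- Symmetric groups of degree at least four. -/
theorem no_cover_symmetric {n : ℕ} (hn : 4 ≤ n) {𝓐 : Finset (Subgroup (Perm (Fin n)))}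
    (h : IsNilMinCover 𝓐) : False := by
  have h' := h.map (Subgroup.topEquiv (G := Perm (Fin n))).symm
  rcases Nat.eq_or_lt_of_le hn with rfl | hn'
  · exact case_S4 h'
  · rcases Nat.eq_or_lt_of_le (Nat.succ_le_of_lt hn') with rfl | hn''
    · exact case_S5 h'
    · exact large_case (by omega) _ le_top h'

end Cfsg.Agent.Lib.NilCover.Perm
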