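import Mathlib
import Cfsg.Agent.Lib.NilCover.PGL2B
import Cfsg.Agent.Lib.NilCover.Perm
import Cfsg.Agent.S0494

/-!
# Nilpotent minimal covers of subgroups of `PGL_n`: conclusion
-/

set_option autoImplicit false
set_option linter.style.haveILetI false
set_option linter.unusedSectionVars false

namespace Cfsg.Agent.Lib.NilCover.PGL2C

open Matrix Subgroup Cfsg.Agent.Lib.NilCover.Basic Cfsg.Agent.Lib.NilCover.PGLBase
  Cfsg.Agent.Lib.NilCover.PGLk Cfsg.Agent.Lib.NilCover.Central Cfsg.Agent.Lib.NilCover.PGL3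
  Cfsg.Agent.Lib.NilCover.PGL2A Cfsg.Agent.Lib.NilCover.PGL2B

variable {F : Type*} [Field F] [Fintype F]

/-- The antidiagonal involution. -/
noncomputable def wM : GL (Fin 2) F := mk2 0 1 1 0 (by simp)

/-- The order of the centralizer of `diag(-1, 1)` in a subgroup of `PGL₂`. -/
theorem card_centralizer_le (h2 : (2 : F) ≠ 0) {G : Subgroup (PG 2 F)} (hz : prj (dg (-1) : GL (Fin 2) F) ∈ G) :
    Nat.card (centralizer ({(⟨_, hz⟩ : G)} : Set G)) ≤ (Fintype.card F - 1) * 2 := by
  classical
  let f : Fˣ × Bool → PG 2 F := fun p => if p.2 then prj (dg p.1 * wM) else prj (dg p.1)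
  have hex : ∀ c : centralizer ({(⟨_, hz⟩ : G)} : Set G), ∃ p, f p = ((c : G) : PG 2 F) := by
    rintro ⟨c, hc⟩
    obtain ⟨g, hg⟩ := QuotientGroup.mk'_surjective _ (c : PG 2 F)
    have hgc : prj g = (c : PG 2 F) := hg
    have h1 : c * (⟨_, hz⟩ : G) = (⟨_, hz⟩ : G) * c := mem_centralizer_singleton_iff.mp hc
    have h3 : prj g * prj (dg (-1)) = prj (dg (-1)) * prj g := by
      have := congrArg Subtype.val h1
      simpa only [Subgroup.coe_mul, hgc] using this
    obtain ⟨c', hc'⟩ := prj_comm_iff.mp h3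
    have hd := det_ne g
    rcases monomial_of_conj h2 hc' with ⟨h01, h10⟩ | ⟨h00, h11⟩
    · rw [h01, zero_mul, sub_zero] at hd
      have ha : g.val 0 0 ≠ 0 := left_ne_zero_of_mul hd
      have hb : g.val 1 1 ≠ 0 := right_ne_zero_of_mul hd
      let A : Fˣ := Units.mk0 _ ha
      let B : Fˣ := Units.mk0 _ hb
      refine ⟨(A / B, false), ?_⟩
      simp only [f, Bool.false_eq_true, if_false]
      rw [← hgc]
      refine prj_eq_iff.mpr ⟨B, ?_⟩
      apply Units.ext
      rw [sc_mul_val, dg_val, Matrix.eta_fin_two g.val, h01, h10]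
      ext i j
      fin_cases i <;> fin_cases j <;> simp [A, B]
      field_simp
    · rw [h00, zero_mul, zero_sub, neg_ne_zero] at hd
      have ha : g.val 0 1 ≠ 0 := left_ne_zero_of_mul hd
      have hb : g.val 1 0 ≠ 0 := right_ne_zero_of_mul hd
      let A : Fˣ := Units.mk0 _ ha
      let B : Fˣ := Units.mk0 _ hb
      refine ⟨(A / B, true), ?_⟩
      simp only [f, if_true]
      rw [← hgc]
      refine prj_eq_iff.mpr ⟨B, ?_⟩
      apply Units.ext
      rw [sc_mul_val, Units.val_mul, dg_val]
      have hw : (wM : GL (Fin 2) F).val = !![0, 1; 1, 0] := rfl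
      rw [hw, Matrix.mul_fin_two, Matrix.eta_fin_two g.val, h00, h11]
      ext i j
      fin_cases i <;> fin_cases j <;> simp [A, B]
      field_simp
  choose sel hsel using hex
  have hinj : Function.Injective sel := by
    intro a b hab
    apply Subtype.ext
    apply Subtype.ext
    rw [← hsel a, ← hsel b, hab]
  have h5 := Nat.card_le_card_of_injective sel hinj
  rwa [Nat.card_prod, Cfsg.Agent.Lib.Classical.SLBasic.card_units_eq, Nat.card_eq_fintype_card (α := Bool),
    Fintype.card_bool] at h5

/-- The case `q - 1 = 2 ^ a` with `a ≥ 3`. -/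
theorem no_cover_two_power {a : ℕ} (ha : 3 ≤ a) (hq : Fintype.card F - 1 = 2 ^ a)
    {G : Subgroup (PG 2 F)} (hG : Lsub F ≤ G) {𝓐 : Finset (Subgroup G)} (h : IsNilMinCover 𝓐) :
    False := by
  classical
  haveI : Fact (Nat.Prime 2) := ⟨Nat.prime_two⟩
  have hq1 : 1 ≤ Fintype.card F := Fintype.card_pos
  have hq8 : 8 ≤ 2 ^ a := by
    calc 8 = 2 ^ 3 := by norm_num
      _ ≤ 2 ^ a := Nat.pow_le_pow_right (by norm_num) ha
  set q := Fintype.card F with hqdef
  have hq' : q = 2 ^ a + 1 := by omega
  have h2 : (2 : F) ≠ 0 := by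
    intro h0
    obtain ⟨p, hchar⟩ := CharP.exists F
    have hpp : p.Prime := CharP.char_is_prime F p
    haveI : Fact p.Prime := ⟨hpp⟩
    have h1 : p ∣ 2 := (CharP.cast_eq_zero_iff F p 2).mp (by exact_mod_cast h0)
    have h3 : p = 2 := (Nat.prime_dvd_prime_iff_eq hpp Nat.prime_two).mp h1
    obtain ⟨f, -, hf⟩ := FiniteField.card F p
    have h4 : 2 ∣ q := by
      rw [hqdef, hf, h3]
      exact dvd_pow_self 2 f.pos.ne'
    have h5 : 2 ∣ 2 ^ a := dvd_pow_self 2 (by omega)
    omega
  have hcF : Nat.card F = q := Nat.card_eq_fintype_card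
  obtain ⟨ζ, hζ⟩ := exists_unit_order F 2
  have hfac2 : (2 ^ a).factorization 2 = a := by
    simp [Nat.Prime.factorization_pow Nat.prime_two]
  rw [hcF, hq, hfac2] at hζ
  -- the elements of order two and four
  have hζa : ζ ^ 2 ^ a = 1 := by rw [← hζ, pow_orderOf_eq_one]
  have hneg : ζ ^ 2 ^ (a - 1) = -1 := by
    have e : 2 ^ a = 2 ^ (a - 1) * 2 := by
      rw [← pow_succ]; congr 1; omega
    have h1 : (ζ ^ 2 ^ (a - 1)) * (ζ ^ 2 ^ (a - 1)) = 1 := by
      rw [← pow_add, ← two_mul, mul_comm, ← e, hζa]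
    have h3 : ζ ^ 2 ^ (a - 1) ≠ 1 := by
      intro h0
      have h4 : 2 ^ a ∣ 2 ^ (a - 1) := hζ ▸ orderOf_dvd_of_pow_eq_one h0
      have := (Nat.pow_dvd_pow_iff_le_right (by norm_num)).mp h4
      omega
    have h4 : ((ζ ^ 2 ^ (a - 1) : Fˣ) : F) * ((ζ ^ 2 ^ (a - 1) : Fˣ) : F) = 1 := by
      have := congrArg Units.val h1
      simpa using this
    rcases mul_self_eq_one_iff.mp h4 with h5 | h5
    · exact absurd (Units.ext h5) h3
    · exact Units.ext (by simpa using h5)
  let i : Fˣ := ζ ^ 2 ^ (a - 2)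
  have hi : i * i = -1 := by
    simp only [i]
    rw [← pow_add, ← two_mul, ← hneg]
    congr 1
    rw [← pow_succ']
    congr 1
    omega
  have hi' : (i : F) * i = -1 := by
    have := congrArg Units.val hi
    simpa using this
  let ε : Fˣ := ζ * ζ
  have hε2 : ε ^ 2 ≠ 1 := by
    intro h0
    have h3 : ζ ^ 4 = 1 := by
      have : ζ ^ 4 = ε ^ 2 := by
        simp only [ε]
        rw [← pow_two, ← pow_mul]
      rw [this, h0]
    have h4 : 2 ^ a ∣ 4 := hζ ▸ orderOf_dvd_of_pow_eq_one h3
    have := Nat.le_of_dvd (by norm_num) h4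
    omega
  have hε1 : ε ≠ 1 := by
    intro h0
    apply hε2
    rw [h0, one_pow]
  let x₀ : GL (Fin 2) F := dg ε
  have hx₀a : x₀ ^ 2 ^ (a - 1) = 1 := by
    simp only [x₀]
    rw [← map_pow]
    have : ε ^ 2 ^ (a - 1) = 1 := by
      simp only [ε]
      rw [← pow_two, ← pow_mul, ← pow_succ']
      have e : a - 1 + 1 = a := by omega
      rw [e, hζa]
    rw [this, map_one]
  have hxL : prj x₀ ∈ Lsub F := prj_dg_sq_mem ζ
  have hzL : prj (dg (-1 : Fˣ) : GL (Fin 2) F) ∈ Lsub F := by
    rw [← hi]
    exact prj_dg_sq_mem i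
  let sx : G := ⟨prj x₀, hG hxL⟩
  let sz : G := ⟨prj (dg (-1 : Fˣ)), hG hzL⟩
  have hyb : ∀ b : F, prj (yb h2 b) ∈ G := fun b => hG (prj_yb_mem hi' h2 b)
  let Dsub : F → Subgroup G := fun b => centralizer ({(⟨_, hyb b⟩ : G)} : Set G)
  have hD : ∀ b, Dsub b ≠ ⊤ := by
    intro b htop
    obtain ⟨τ, -, hτ2⟩ := exists_tau (N := 2) (x := yb h2 b) (by exact_mod_cast h2) (yb_sq h2 b)
      (yb_ne h2 b) (yb_vec_ne h2 b) (yb_fix h2 b)
    have hτm : prj (SpecialLinearGroup.toGL τ) ∈ G := hG ⟨_, ⟨τ, rfl⟩, rfl⟩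
    have hmem : (⟨_, hτm⟩ : G) ∈ Dsub b := htop ▸ mem_top _
    have h1 : (⟨_, hτm⟩ : G) * (⟨_, hyb b⟩ : G) = (⟨_, hyb b⟩ : G) * (⟨_, hτm⟩ : G) :=
      mem_centralizer_singleton_iff.mp hmem
    have h3 : prj (SpecialLinearGroup.toGL τ) * prj (yb h2 b) =
        prj (yb h2 b) * prj (SpecialLinearGroup.toGL τ) := congrArg Subtype.val h1
    obtain ⟨c, hc⟩ := prj_comm_iff.mp h3
    exact hτ2 1 c (by rw [pow_one]; exact hc)
  let 𝓒 : Finset (Subgroup G) := (Finset.univ.image (Bsub G)) ∪ (Finset.univ.image Dsub)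
  have hindex : (centralizer ({sz} : Set G)).index ≤ 𝓒.card := by
    refine central_index_le (p := 2) (k := a - 1) h (x := sx) (z := sz) ?_ ?_ ?_ ?_ ?_
    · apply Subtype.ext
      simp only [Subgroup.coe_pow, sx, Subgroup.coe_one]
      rw [← map_pow, hx₀a, map_one]
    · intro h0
      have h1 : prj x₀ = 1 := congrArg Subtype.val h0
      have h3 := pow_eq_one_of_prj (k := 1) e2_ne (dg_fix ε) (by rw [pow_one]; exact h1)
      rw [pow_one] at h3
      exact hε1 (dg_injective (h3.trans (map_one _).symm))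
    · intro y hyo hyx
      obtain ⟨g, hg⟩ := QuotientGroup.mk'_surjective _ (y : PG 2 F)
      have hgy : prj g = (y : PG 2 F) := hg
      have hy2 : (prj g) ^ 2 = 1 := by
        have hy' : y ^ 2 = 1 := by
          have := pow_orderOf_eq_one y
          rwa [hyo] at this
        rw [hgy, ← Subgroup.coe_pow, hy', Subgroup.coe_one]
      have hy1 : prj g ≠ 1 := by
        intro h0
        rw [hgy] at h0
        have : y = 1 := Subtype.ext h0
        rw [this, orderOf_one] at hyo
        omega
      have hcomm : prj g * prj x₀ = prj x₀ * prj g := by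
        have := congrArg Subtype.val hyx
        simpa only [Subgroup.coe_mul, hgy] using this
      obtain ⟨c, hc⟩ := prj_comm_iff.mp hcomm
      obtain ⟨-, h01, h10⟩ := diag_conj hε2 hc
      have h1g : prj (1 : GL (Fin 2) F) = prj (g ^ 2) := by
        rw [map_one, map_pow, hy2]
      obtain ⟨s, hs⟩ := prj_eq_iff.mp h1g
      rw [mul_one] at hs
      have hgval : g.val = !![g.val 0 0, 0; 0, g.val 1 1] := by
        conv_lhs => rw [Matrix.eta_fin_two g.val, h01, h10]
      have hsq : (g.val 0 0) ^ 2 = (g.val 1 1) ^ 2 := by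
        have h3 : (g ^ 2).val = (s : F) • 1 := by rw [hs, sc_val]
        rw [Units.val_pow_eq_pow_val, hgval, pow_two, Matrix.mul_fin_two, Matrix.one_fin_two] at h3
        have e00 := congrFun (congrFun h3 0) 0
        have e11 := congrFun (congrFun h3 1) 1
        simp at e00 e11
        rw [pow_two, pow_two, e00, e11]
      have hd := det_ne g
      rw [h01, zero_mul, sub_zero] at hd
      have ha0 : g.val 0 0 ≠ 0 := left_ne_zero_of_mul hd
      have hb0 : g.val 1 1 ≠ 0 := right_ne_zero_of_mul hd
      let B : Fˣ := Units.mk0 _ hb0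
      apply Subtype.ext
      change (y : PG 2 F) = prj (dg (-1 : Fˣ))
      rw [← hgy]
      rcases sq_eq_sq_iff_eq_or_eq_neg.mp hsq with h5 | h5
      · exfalso
        apply hy1
        have : g = sc B := by
          apply Units.ext
          rw [sc_val, hgval, h5]
          ext i j
          fin_cases i <;> fin_cases j <;> simp [B]
        rw [this, prj_sc]
      · symm
        refine prj_eq_iff.mpr ⟨B, ?_⟩
        apply Units.ext
        rw [sc_mul_val, dg_val, hgval, h5]
        ext i j
        fin_cases i <;> fin_cases j <;> simp [B]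
    · intro C hC
      rcases Finset.mem_union.mp hC with hC | hC
      · obtain ⟨o, -, rfl⟩ := Finset.mem_image.mp hC
        exact Bsub_ne_top hG o
      · obtain ⟨b, -, rfl⟩ := Finset.mem_image.mp hC
        exact hD b
    · intro t g hgt
      obtain ⟨t', ht⟩ := QuotientGroup.mk'_surjective _ (t : PG 2 F)
      obtain ⟨g', hg⟩ := QuotientGroup.mk'_surjective _ (g : PG 2 F)
      have ht' : prj t' = (t : PG 2 F) := ht
      have hg' : prj g' = (g : PG 2 F) := hg
      have h1 : prj g' * prj (t' * dg (-1) * t'⁻¹) = prj (t' * dg (-1) * t'⁻¹) * prj g' := by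
        have := congrArg Subtype.val hgt
        simp only [Subgroup.coe_mul, Subgroup.coe_inv, ← hg', ← ht'] at this
        simpa only [map_mul, map_inv] using this
      rcases cover_of_conj h2 h1 with ⟨o, ho⟩ | ⟨b, hb⟩
      · refine ⟨Bsub G o, Finset.mem_union_left _ (Finset.mem_image_of_mem _ (Finset.mem_univ _)), ?_⟩
        exact ⟨g', ho, hg'⟩
      · refine ⟨Dsub b, Finset.mem_union_right _ (Finset.mem_image_of_mem _ (Finset.mem_univ _)), ?_⟩
        apply mem_centralizer_singleton_iff.mpr
        apply Subtype.ext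
        simp only [Subgroup.coe_mul, ← hg']
        exact hb
  have hcard𝓒 : 𝓒.card ≤ (q + 1) + q := by
    refine (Finset.card_union_le _ _).trans (add_le_add ?_ ?_)
    · refine Finset.card_image_le.trans ?_
      rw [Finset.card_univ, Fintype.card_option]
    · refine Finset.card_image_le.trans ?_
      rw [Finset.card_univ]
  have hC := card_centralizer_le h2 (G := G) (hG hzL)
  have h3 := Subgroup.index_mul_card (centralizer ({sz} : Set G))
  have h4 : Nat.card (Lsub F) ≤ Nat.card G := Subgroup.card_le_of_le hG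
  have h5 := card_Lsub (F := F) h2
  rw [← hqdef] at hC h5
  have hq9 : 9 ≤ q := by omega
  have h6 : (centralizer ({sz} : Set G)).index * Nat.card (centralizer ({sz} : Set G)) ≤
      (2 * q + 1) * ((q - 1) * 2) :=
    Nat.mul_le_mul (by omega) hC
  rw [h3] at h6
  obtain ⟨d, hd⟩ : ∃ d, q = d + 1 := ⟨q - 1, by omega⟩
  rw [hd] at h5 h6 hq9
  simp only [Nat.add_sub_cancel] at h5 h6
  have h7 : (d + 1) * (d * (d + 1 + 1)) ≤ (2 * (d + 1) + 1) * (d * 2) * 2 := by
    calc (d + 1) * (d * (d + 1 + 1)) = Nat.card (Lsub F) * 2 := h5.symm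
      _ ≤ Nat.card G * 2 := Nat.mul_le_mul_right 2 h4
      _ ≤ _ := Nat.mul_le_mul_right 2 h6
  have hd8 : 8 ≤ d := by omega
  nlinarith [Nat.mul_le_mul hd8 hd8, Nat.zero_le (d * d), Nat.zero_le (d * d * d)]

/-- Upper unipotent elements. -/
def uu (b : F) : SpecialLinearGroup (Fin 2) F :=
  ⟨!![1, b; 0, 1], by rw [Matrix.det_fin_two_of]; simp⟩

/-- A lower unipotent element. -/
def ll : SpecialLinearGroup (Fin 2) F :=
  ⟨!![1, 0; 1, 1], by rw [Matrix.det_fin_two_of]; simp⟩

theorem uu_val (b : F) : (SpecialLinearGroup.toGL (uu b)).val = !![1, b; 0, 1] := rfl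

theorem ll_val : (SpecialLinearGroup.toGL (ll : SpecialLinearGroup (Fin 2) F)).val = !![1, 0; 1, 1] := rfl

theorem uu_pow_val (k : ℕ) :
    ((SpecialLinearGroup.toGL (uu (1 : F))) ^ k).val = !![1, (k : F); 0, 1] := by
  induction k with
  | zero =>
    rw [pow_zero, Units.val_one, Matrix.one_fin_two]
    simp
  | succ k ih =>
    rw [pow_succ, Units.val_mul, ih, uu_val, Matrix.mul_fin_two]
    simp [add_comm]

/-- The case of five elements. -/
theorem no_cover_five (hq : Fintype.card F = 5) {G : Subgroup (PG 2 F)} (hG : Lsub F ≤ G)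
    {𝓐 : Finset (Subgroup G)} (h : IsNilMinCover 𝓐) : False := by
  classical
  haveI : Fact (Nat.Prime 5) := ⟨by norm_num⟩
  have h50 : (5 : F) = 0 := by
    have := FiniteField.cast_card_eq_zero F
    rw [hq] at this
    exact_mod_cast this
  have h2 : (2 : F) ≠ 0 := by
    intro h0
    have : (1 : F) = 5 - 2 * 2 := by ring
    rw [h50, h0] at this
    simp at this
  by_cases hGL : G = Lsub F
  · subst hGL
    have hc := card_Lsub (F := F) h2
    rw [hq] at hc
    have hcard : Nat.card (Lsub F) = 60 := by omega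
    let e₀ : Matrix.ProjectiveSpecialLinearGroup (Fin 2) F ≃* Lsub F :=
      (QuotientGroup.quotientMulEquivOfEq ker_phiL.symm).trans
        ((QuotientGroup.quotientKerEquivRange (phiL F)).trans (MulEquiv.subgroupCongr range_phiL))
    haveI : IsSimpleGroup (Matrix.ProjectiveSpecialLinearGroup (Fin 2) F) :=
      Matrix.ProjectiveSpecialLinearGroup.rank_two_simple (by
        rw [Nat.card_eq_fintype_card, hq]; norm_num)
    haveI : IsSimpleGroup (Lsub F) := e₀.symm.isSimpleGroup
    obtain ⟨e⟩ := Cfsg.Agent.S0494.result hcard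
    exact Cfsg.Agent.Lib.NilCover.Perm.case_A5 (h.map e)
  · have hcPG : Nat.card (PG 2 F) = 120 := by
      have := card_PG2 (F := F)
      rw [hq] at this
      omega
    let U : GL (Fin 2) F := SpecialLinearGroup.toGL (uu 1)
    have hUL : prj U ∈ Lsub F := ⟨_, ⟨_, rfl⟩, rfl⟩
    let σ : G := ⟨prj U, hG hUL⟩
    have hU5 : U ^ 5 = 1 := by
      apply Units.ext
      rw [uu_pow_val, Units.val_one, Matrix.one_fin_two]
      have : ((5 : ℕ) : F) = 0 := by exact_mod_cast h50
      rw [this]
    let e₁ : Fin 2 → F := ![1, 0]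
    have he₁ : e₁ ≠ 0 := by
      intro h0
      have := congrFun h0 0
      simp [e₁] at this
    have hUe : U.val *ᵥ e₁ = e₁ := by
      rw [uu_val]
      ext i
      fin_cases i <;> simp [e₁, Matrix.mulVec, dotProduct, Fin.sum_univ_two]
    have hU1 : U ≠ 1 := by
      intro h0
      have h1 : U.val = 1 := by rw [h0, Units.val_one]
      rw [uu_val] at h1
      have := congrFun (congrFun h1 0) 1
      simp at this
    have hσo : orderOf σ = 5 := by
      apply orderOf_eq_prime
      · apply Subtype.ext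
        simp only [Subgroup.coe_pow, σ, Subgroup.coe_one]
        rw [← map_pow, hU5, map_one]
      · intro h0
        have h1 : prj U = 1 := congrArg Subtype.val h0
        have h3 := pow_eq_one_of_prj (k := 1) he₁ hUe (by rw [pow_one]; exact h1)
        rw [pow_one] at h3
        exact hU1 h3
    have hfac : (Nat.card G).factorization 5 = 1 := by
      have hcG : Nat.card G ≠ 0 := Nat.card_pos.ne'
      have h1 : 5 ∣ Nat.card G := hσo ▸ orderOf_dvd_natCard σ
      have h3 : ¬ 5 ^ 2 ∣ Nat.card G := by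
        intro hd
        have h4 : Nat.card G ∣ 120 := hcPG ▸ Subgroup.card_subgroup_dvd_card G
        have := hd.trans h4
        norm_num at this
      have h4 : 1 ≤ (Nat.card G).factorization 5 :=
        (Nat.Prime.dvd_iff_one_le_factorization (by norm_num) hcG).mp h1
      have h6 : ¬ 2 ≤ (Nat.card G).factorization 5 := fun hle =>
        h3 ((Nat.Prime.pow_dvd_iff_le_factorization (by norm_num) hcG).mpr hle)
      omega
    let H : Subgroup G := (Lsub F).comap G.subtype
    have hHt : H ≠ ⊤ := by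
      intro ht
      apply hGL
      apply le_antisymm _ hG
      intro x hx
      have : (⟨x, hx⟩ : G) ∈ H := ht ▸ mem_top _
      exact this
    have hτL : prj (SpecialLinearGroup.toGL (ll : SpecialLinearGroup (Fin 2) F)) ∈ Lsub F :=
      ⟨_, ⟨_, rfl⟩, rfl⟩
    let τ : G := ⟨_, hG hτL⟩
    refine false_of_sylow_element (p := 5) h (σ := σ) (by rw [hσo, hfac, pow_one]) hHt ?_ (τ := τ) hτL ?_
    · intro c hc
      obtain ⟨g, hg⟩ := QuotientGroup.mk'_surjective _ (c : PG 2 F)
      have hgc : prj g = (c : PG 2 F) := hg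
      have h1 : c * σ = σ * c := ((mem_centralizer_iff.mp hc) σ (mem_zpowers σ)).symm
      have h3 : prj g * prj U = prj U * prj g := by
        have := congrArg Subtype.val h1
        simpa only [Subgroup.coe_mul, hgc] using this
      obtain ⟨k, hk⟩ := prj_comm_iff.mp h3
      have hm := conj_matrix hk
      rw [uu_val, Matrix.eta_fin_two g.val, Matrix.mul_fin_two, Matrix.mul_fin_two] at hm
      have e00 := congrFun (congrFun hm 0) 0
      have e01 := congrFun (congrFun hm 0) 1
      have e10 := congrFun (congrFun hm 1) 0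
      have e11 := congrFun (congrFun hm 1) 1
      simp at e00 e01 e10 e11
      have hd := det_ne g
      have hc0 : g.val 1 0 = 0 := by
        by_contra hne
        have hk1 : (k : F) = 1 := by
          have : g.val 1 0 * (k : F) = g.val 1 0 * 1 := by linear_combination -e10
          exact mul_left_cancel₀ hne this
        rw [hk1] at e00
        apply hne
        linear_combination -e00
      rw [hc0, mul_zero, sub_zero] at hd
      have ha0 : g.val 0 0 ≠ 0 := left_ne_zero_of_mul hd
      rw [hc0] at e00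
      have hk1 : (k : F) = 1 := by
        have : g.val 0 0 * (k : F) = g.val 0 0 * 1 := by linear_combination -e00
        exact mul_left_cancel₀ ha0 this
      rw [hk1] at e01
      have had : g.val 0 0 = g.val 1 1 := by linear_combination e01
      let A : Fˣ := Units.mk0 _ ha0
      have hgeq : g = sc A * SpecialLinearGroup.toGL (uu (g.val 0 1 / g.val 0 0)) := by
        apply Units.ext
        rw [sc_mul_val, uu_val]
        conv_lhs => rw [Matrix.eta_fin_two g.val]
        rw [hc0, ← had]
        ext i j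
        fin_cases i <;> fin_cases j <;> simp [A]
        field_simp
      have : (c : PG 2 F) ∈ Lsub F := by
        rw [← hgc, hgeq, map_mul, prj_sc, one_mul]
        exact ⟨_, ⟨_, rfl⟩, rfl⟩
      exact this
    · intro hnorm
      have h1 : τ * σ * τ⁻¹ ∈ zpowers σ := (mem_normalizer_iff.mp hnorm σ).mp (mem_zpowers σ)
      obtain ⟨k, hk⟩ := (mem_powers_iff_mem_zpowers.mpr h1)
      have h3 : prj (SpecialLinearGroup.toGL (ll : SpecialLinearGroup (Fin 2) F)) * prj U *
          (prj (SpecialLinearGroup.toGL (ll : SpecialLinearGroup (Fin 2) F)))⁻¹ = (prj U) ^ k := by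
        have := congrArg Subtype.val hk
        simpa only [Subgroup.coe_mul, Subgroup.coe_inv, Subgroup.coe_pow] using this.symm
      obtain ⟨c, hc⟩ := prj_conj_pow_iff.mp h3
      have h4 : SpecialLinearGroup.toGL (ll : SpecialLinearGroup (Fin 2) F) * U =
          sc c * U ^ k * SpecialLinearGroup.toGL ll := by
        rw [← hc]; group
      have h5 := congrArg Units.val h4
      rw [Units.val_mul, Units.val_mul, sc_mul_val, Matrix.smul_mul, uu_pow_val, ll_val, uu_val,
        Matrix.mul_fin_two, Matrix.mul_fin_two] at h5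
      have e10 := congrFun (congrFun h5 1) 0
      have e11 := congrFun (congrFun h5 1) 1
      simp at e10 e11
      have : (1 : F) = 0 := by linear_combination e11 - e10
      exact one_ne_zero this

/-- The statement in all degrees. -/
theorem no_cover_main {n : ℕ} (hn : 3 ≤ n ∨ (n = 2 ∧ 4 ≤ Fintype.card F)) {G : Subgroup (PG n F)}
    (hG : ((SpecialLinearGroup.toGL : SpecialLinearGroup (Fin n) F →* GL (Fin n) F).range).map prj ≤ G)
    {𝓐 : Finset (Subgroup G)} (h : IsNilMinCover 𝓐) : False := by
  classical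
  set q := Fintype.card F with hq
  have hq2 : 2 ≤ q := Fintype.one_lt_card
  rcases hn with hn | ⟨rfl, hq4⟩
  · by_cases h72 : q = 2 ∧ n = 7
    · obtain ⟨hq22, rfl⟩ := h72
      obtain ⟨r, hr, hrk, hprim⟩ := Cfsg.Agent.Lib.Zsig.Basic.zsigmondy q 5 (by omega) (by norm_num)
        (by omega) (by omega)
      exact no_cover_primitive (k := 5) (l := 2) (by norm_num) (by norm_num) (by norm_num)
        (by norm_num) hr hrk hprim hG h
    · by_cases h3m : n = 3 ∧ ∃ m : ℕ, q + 1 = 2 ^ m
      · obtain ⟨rfl, m, hm⟩ := h3m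
        have h2F : (2 : F) ≠ 0 := by
          intro h0
          obtain ⟨p, hchar⟩ := CharP.exists F
          have hpp : p.Prime := CharP.char_is_prime F p
          haveI : Fact p.Prime := ⟨hpp⟩
          have h1 : p ∣ 2 := (CharP.cast_eq_zero_iff F p 2).mp (by exact_mod_cast h0)
          have h3 : p = 2 := (Nat.prime_dvd_prime_iff_eq hpp Nat.prime_two).mp h1
          obtain ⟨f, -, hf⟩ := FiniteField.card F p
          have h4 : 2 ∣ q := by
            rw [hq, hf, h3]
            exact dvd_pow_self 2 f.pos.ne'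
          have hm0 : m ≠ 0 := by
            rintro rfl
            simp at hm
            omega
          have h5 : 2 ∣ 2 ^ m := dvd_pow_self 2 hm0
          omega
        exact no_cover_three h2F hG h
      · obtain ⟨r, hr, hrk, hprim⟩ := Cfsg.Agent.Lib.Zsig.Basic.zsigmondy q (n - 1) (by omega)
          (by omega) (by
            rintro ⟨h1, h3⟩
            exact h72 ⟨h1, by omega⟩)
          (by
            rintro ⟨h1, m, hm⟩
            exact h3m ⟨by omega, m, hm⟩)
        exact no_cover_primitive (k := n - 1) (l := 1) (by omega) (by norm_num) (by omega)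
          (by omega) hr hrk hprim hG h
  · rcases Nat.eq_two_pow_or_exists_odd_prime_and_dvd (q - 1) with ⟨a, ha⟩ | ⟨r, hr, hrd, hodd⟩
    · have h4 : 3 ≤ 2 ^ a := by omega
      have ha2 : 2 ≤ a := by
        by_contra hlt
        have : a = 0 ∨ a = 1 := by omega
        rcases this with rfl | rfl <;> simp at h4
      rcases Nat.eq_or_lt_of_le ha2 with rfl | ha3
      · exact no_cover_five (by omega) hG h
      · exact no_cover_two_power (by omega) ha hG h
    · have hr2 : r ≠ 2 := by
        rintro rfl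
        exact absurd hodd (by decide)
      exact no_cover_split hr hr2 hrd hG h

end Cfsg.Agent.Lib.NilCover.PGL2C
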