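import Mathlib
import Cfsg.Agent.Lib.NilCover.Basic
import Cfsg.Agent.Lib.SzIso.Basic
import Cfsg.Agent.Lib.SuzukiX.Partition

/-!
# Suzuki groups have no nilpotent minimal cover
-/

set_option autoImplicit false
set_option linter.style.haveILetI false
set_option linter.unusedSectionVars false

namespace Cfsg.Agent.Lib.NilCover.Suzuki

open Subgroup Cfsg Cfsg.Agent.Lib.NilCover.Basic Cfsg.Agent.Lib.Suzuki.Core
  Cfsg.Agent.Lib.Suzuki.Elements Cfsg.Agent.Lib.Suzuki.Stab Cfsg.Agent.Lib.Suzuki.Group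
  Cfsg.Agent.Lib.Suzuki.Simple Cfsg.Agent.Lib.Suzuki.Sylow2 Cfsg.Agent.Lib.Suzuki.Odd
  Cfsg.Agent.Lib.Suzuki.CN Cfsg.Agent.Lib.SuzukiX.Partition

variable {F : Type*} [Field F] [Fintype F] [CharP F 2] {m : ℕ}

theorem no_cover (hc : Ctx F m) {𝓐 : Finset (Subgroup (Sz F m))} (h : IsNilMinCover 𝓐) : False := by
  classical
  have hm := hc.hm
  set q : ℕ := 2 ^ (2 * m + 1) with hq
  have hq8 : 8 ≤ q := by
    rw [hq]
    calc 8 = 2 ^ 3 := by norm_num
      _ ≤ 2 ^ (2 * m + 1) := Nat.pow_le_pow_right (by norm_num) (by omega)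
  have hq1 : q - 1 ≠ 1 := by omega
  obtain ⟨r, hr, hrd⟩ := Nat.exists_prime_and_dvd hq1
  haveI : Fact r.Prime := ⟨hr⟩
  have hr2 : r ≠ 2 := by
    rintro rfl
    have : Odd (q - 1) := odd_q
    exact (Nat.not_even_iff_odd.mpr this) (even_iff_two_dvd.mpr hrd)
  have hr2' : ¬ r ∣ q ^ 2 := by
    intro hd
    have h3 : r ∣ q := hr.dvd_of_dvd_pow hd
    have h4 : r ∣ 2 := hr.dvd_of_dvd_pow h3
    exact hr2 ((Nat.prime_dvd_prime_iff_eq hr Nat.prime_two).mp h4)
  have hr3 : ¬ r ∣ q ^ 2 + 1 := by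
    intro hd
    have := Nat.Coprime.eq_one_of_dvd (Nat.Coprime.coprime_dvd_left hd (coprime_q2 m))
    have h5 : Nat.Coprime r (q - 1) :=
      Nat.Coprime.coprime_dvd_left hd (coprime_q2 m)
    exact hr.one_lt.ne' (Nat.Coprime.eq_one_of_dvd h5 hrd)
  have hcard : Nat.card (Sz F m) = q ^ 2 * (q ^ 2 + 1) * (q - 1) := card_Sz hc
  set a := (q - 1).factorization r with ha
  have hfac : (Nat.card (Sz F m)).factorization r = a := by
    rw [hcard, Nat.factorization_mul (by positivity) (by omega),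
      Nat.factorization_mul (by positivity) (by positivity)]
    simp only [Finsupp.coe_add, Pi.add_apply]
    rw [Nat.factorization_eq_zero_of_not_dvd hr2', Nat.factorization_eq_zero_of_not_dvd hr3]
    simp [ha]
  -- an element of the torus of order the full `r`-part
  have hcardU : Nat.card Fˣ = q - 1 := card_units_eq hc
  obtain ⟨ζ, hζ⟩ := IsCyclic.exists_generator (α := Fˣ)
  have hζo : orderOf ζ = q - 1 := by
    rw [orderOf_eq_card_of_forall_mem_zpowers hζ, hcardU]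
  have hdiv : r ^ a ∣ orderOf ζ := by
    rw [hζo, ha]; exact Nat.ordProj_dvd _ _
  let l : Fˣ := ζ ^ (orderOf ζ / r ^ a)
  have hlo : orderOf l = r ^ a := orderOf_pow_orderOf_div (orderOf_pos _).ne' hdiv
  have ha1 : 1 ≤ a := by
    rw [ha]
    exact (hr.dvd_iff_one_le_factorization (by omega)).mp hrd
  let σ : Sz F m := hS hc l
  have hσo : orderOf σ = r ^ a := by
    rw [← hlo]
    exact orderOf_injective (hSHom (hc := hc)) (hS_injective hc) l
  have hσ1 : σ ≠ 1 := by
    intro h1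
    rw [h1, orderOf_one] at hσo
    have : 1 < r ^ a := Nat.one_lt_pow (by omega) hr.one_lt
    omega
  have hσinf : σ • (infO : OO F m) = infO := Subtype.ext (hS_smul_inf hc l)
  have hσ0 : σ • (ptO 0 0 : OO F m) = ptO 0 0 := Subtype.ext (hS_smul_zero hc l)
  let H : Subgroup (Sz F m) := MulAction.stabilizer (Sz F m) (infO : OO F m)
  have hHt : H ≠ ⊤ := by
    intro ht
    have : wS hc ∈ H := ht ▸ mem_top _
    have h2 : wS hc • (infO : OO F m) = infO := this
    have h3 : wS hc • suzukiPointInfinity F = pt m (0 : F) 0 := wS_smul_inf hc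
    have h4 := congrArg Subtype.val h2
    change wS hc • suzukiPointInfinity F = suzukiPointInfinity F at h4
    rw [h3] at h4
    exact pt_ne_inf h4
  have hCH : centralizer ((zpowers σ : Subgroup (Sz F m)) : Set (Sz F m)) ≤ H := by
    intro c hc'
    have h1 : σ * c = c * σ := (mem_centralizer_iff.mp hc') σ (mem_zpowers σ)
    exact fix_of_commute hc hσ1 hσinf h1
  let τ : Sz F m := uS hc 1 0
  have hτH : τ ∈ H := Subtype.ext (uS_smul_inf hc 1 0)
  refine false_of_sylow_element (p := r) h (σ := σ) (by rw [hσo, hfac]) hHt hCH hτH ?_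
  intro hnorm
  have h1 : τ * σ * τ⁻¹ ∈ zpowers σ := (mem_normalizer_iff.mp hnorm σ).mp (mem_zpowers σ)
  obtain ⟨k, hk⟩ := mem_zpowers_iff.mp h1
  have hρ1 : τ * σ * τ⁻¹ ≠ 1 := by
    intro h2
    apply hσ1
    have : τ⁻¹ * (τ * σ * τ⁻¹) * τ = τ⁻¹ * 1 * τ := by rw [h2]
    simpa [mul_assoc] using this
  have hfix1 : (τ * σ * τ⁻¹) • (infO : OO F m) = infO := by
    rw [← hk]
    exact (MulAction.mem_stabilizer_iff (G := Sz F m) (a := (infO : OO F m))).mp
      ((zpowers_le.mpr hσinf) (zpow_mem_zpowers σ k))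
  have hfix0 : (τ * σ * τ⁻¹) • (ptO 0 0 : OO F m) = ptO 0 0 := by
    rw [← hk]
    exact (MulAction.mem_stabilizer_iff (G := Sz F m) (a := (ptO 0 0 : OO F m))).mp
      ((zpowers_le.mpr hσ0) (zpow_mem_zpowers σ k))
  have hτ0 : τ • (ptO 0 0 : OO F m) = ptO 1 0 := by
    apply Subtype.ext
    change uS hc 1 0 • pt m 0 0 = pt m 1 0
    rw [uS_smul_pt]
    simp
  have hfix2 : (τ * σ * τ⁻¹) • (ptO 1 0 : OO F m) = ptO 1 0 := by
    rw [← hτ0, mul_smul, mul_smul, inv_smul_smul, hσ0]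
  refine hρ1 (no_three hc _ infO (ptO 0 0) (ptO 1 0) ?_ ?_ ?_ hfix1 hfix0 hfix2)
  · intro he
    exact pt_ne_inf (congrArg Subtype.val he).symm
  · intro he
    have := pt_eq_pt_iff.mp (congrArg Subtype.val he)
    exact zero_ne_one this.1
  · intro he
    exact pt_ne_inf (congrArg Subtype.val he).symm

end Cfsg.Agent.Lib.NilCover.Suzuki
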